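import Groth.Prelude.Def_Dyn
import Groth.Agent.Lib.Hopf.Points
import Groth.Agent.Lib.Hopf.Translate
import Mathlib.RingTheory.HopfAlgebra.Quotient
import Mathlib.Tactic.Group

/-!
The dynamic method: the conjugation grading of a Hopf algebra attached to a one-parameter subgroup.
-/

universe u

open LaurentPolynomial TensorProduct WithConv

attribute [-simp] LaurentPolynomial.single_eq_C_mul_T

namespace GrothLib.DynMeth

variable {k : Type u} [CommRing k] {A : Type u} [CommRing A] [HopfAlgebra k A]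
  {R : Type u} [CommRing R] [Algebra k R] {C : Type u} [CommRing C] [Algebra k C]

/-- Points form a group. -/
noncomputable scoped instance ptInv : Inv (WithConv (A →ₐ[k] R)) := ⟨GrothLib.Hopf.pinv⟩

/-- Points form a group. -/
noncomputable scoped instance ptGroup : Group (WithConv (A →ₐ[k] R)) where
  inv_mul_cancel := GrothLib.Hopf.pinv_mul

theorem comp_inv (h : R →ₐ[k] C) (f : WithConv (A →ₐ[k] R)) :
    toConv (h.comp f⁻¹.ofConv) = (toConv (h.comp f.ofConv))⁻¹ := rfl

theorem comp_mul (h : R →ₐ[k] C) (f g : WithConv (A →ₐ[k] R)) :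
    toConv (h.comp (f * g).ofConv) = toConv (h.comp f.ofConv) * toConv (h.comp g.ofConv) :=
  GrothLib.Hopf.comp_convMul h f g

theorem one_apply (a : A) : (1 : WithConv (A →ₐ[k] R)).ofConv a = algebraMap k R (Coalgebra.counit a) := by
  rw [AlgHom.convOne_def]; rfl

variable (k A) in
/-- Functoriality of Laurent polynomials. -/
noncomputable def mapL (g : R →ₐ[k] C) : R[T;T⁻¹] →ₐ[k] C[T;T⁻¹] := AddMonoidAlgebra.mapAlgHom ℤ g

theorem coeff_mapL (g : R →ₐ[k] C) (p : R[T;T⁻¹]) (n : ℤ) : (mapL k g p).coeff n = g (p.coeff n) := by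
  simp [mapL]

/-- The constants. -/
noncomputable abbrev toL (R : Type u) [CommRing R] [Algebra k R] : R →ₐ[k] R[T;T⁻¹] :=
  IsScalarTower.toAlgHom k R R[T;T⁻¹]

theorem toL_apply (r : R) : toL (k := k) R r = AddMonoidAlgebra.single 0 r := by
  rfl

theorem mapL_toL (g : R →ₐ[k] C) (r : R) : mapL k g (toL (k := k) R r) = toL (k := k) C (g r) := by
  rw [toL_apply, toL_apply]; simp [mapL]

variable (lam : A →ₐc[k] k[T;T⁻¹])

theorem conjOrbit_eq_mul (g : A →ₐ[k] R) : toConv (Dyn.conjOrbit k A lam R g) =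
    toConv (Dyn.lamR k A lam R) * toConv ((toL R).comp g) * (toConv (Dyn.lamR k A lam R))⁻¹ := by
  rw [Dyn.conjOrbit, GrothLib.Hopf.conv3_eq, toConv_ofConv]
  rfl

/-- The conjugated orbit of a product. -/
theorem conjOrbit_mul (f g : WithConv (A →ₐ[k] R)) :
    toConv (Dyn.conjOrbit k A lam R (f * g).ofConv) =
      toConv (Dyn.conjOrbit k A lam R f.ofConv) * toConv (Dyn.conjOrbit k A lam R g.ofConv) := by
  rw [conjOrbit_eq_mul, conjOrbit_eq_mul, conjOrbit_eq_mul, comp_mul]
  group

theorem conjOrbit_one : toConv (Dyn.conjOrbit k A lam R (1 : WithConv (A →ₐ[k] R)).ofConv) = 1 := by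
  rw [conjOrbit_eq_mul, GrothLib.Hopf.comp_convOne]
  simp only [toConv_ofConv]
  rw [_root_.mul_one, mul_inv_cancel]

theorem conjOrbit_inv (f : WithConv (A →ₐ[k] R)) :
    toConv (Dyn.conjOrbit k A lam R f⁻¹.ofConv) = (toConv (Dyn.conjOrbit k A lam R f.ofConv))⁻¹ := by
  rw [conjOrbit_eq_mul, conjOrbit_eq_mul, comp_inv]
  group

/-- The conjugation coaction. -/
noncomputable def cL : A →ₐ[k] A[T;T⁻¹] := Dyn.conjOrbit k A lam A (AlgHom.id k A)

/-- The degree `n` component of the conjugation coaction. -/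
noncomputable def co (n : ℤ) : A →ₗ[k] A :=
  { toFun := fun a => (cL lam a).coeff n
    map_add' := fun a b => by simp
    map_smul' := fun r a => by simp }

theorem co_apply (n : ℤ) (a : A) : co lam n a = (cL lam a).coeff n := rfl

theorem mapL_lamR (g : R →ₐ[k] C) : (mapL k g).comp (Dyn.lamR k A lam R) = Dyn.lamR k A lam C := by
  unfold Dyn.lamR
  rw [← AlgHom.comp_assoc]
  congr 1
  refine AlgHom.ext fun p => AddMonoidAlgebra.ext (Finsupp.ext fun n => ?_)
  rw [AlgHom.comp_apply, coeff_mapL]
  simp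

theorem conjOrbit_eq (g : A →ₐ[k] R) : Dyn.conjOrbit k A lam R g = (mapL k g).comp (cL lam) := by
  apply toConv_injective
  rw [cL, conjOrbit_eq_mul, show Dyn.conjOrbit k A lam A (AlgHom.id k A) =
      (toConv (Dyn.lamR k A lam A) * toConv ((toL A).comp (AlgHom.id k A)) * (toConv (Dyn.lamR k A lam A))⁻¹).ofConv from
    (congrArg ofConv (conjOrbit_eq_mul lam (AlgHom.id k A))), comp_mul, comp_mul, comp_inv, ofConv_toConv, mapL_lamR]
  congr 3
  exact AlgHom.ext fun a => (mapL_toL g a).symm

theorem coeff_conjOrbit (g : A →ₐ[k] R) (a : A) (n : ℤ) :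
    (Dyn.conjOrbit k A lam R g a).coeff n = g (co lam n a) := by
  rw [conjOrbit_eq, AlgHom.comp_apply, coeff_mapL, co_apply]

theorem co_counit (n : ℤ) (a : A) :
    Coalgebra.counit (R := k) (co lam n a) = if n = 0 then Coalgebra.counit (R := k) a else 0 := by
  have h := coeff_conjOrbit lam (1 : WithConv (A →ₐ[k] k)).ofConv a n
  rw [show Dyn.conjOrbit k A lam k (1 : WithConv (A →ₐ[k] k)).ofConv =
      (1 : WithConv (A →ₐ[k] k[T;T⁻¹])).ofConv from congrArg ofConv (conjOrbit_one lam), one_apply, one_apply] at h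
  simp only [Algebra.algebraMap_self_apply, RingHom.id_apply] at h
  rw [← h]
  change (AddMonoidAlgebra.single (0 : ℤ) (Coalgebra.counit (R := k) a)).coeff n = _
  rw [AddMonoidAlgebra.coeff_single, Finsupp.single_apply]
  exact ite_congr (propext eq_comm) (fun _ => rfl) (fun _ => rfl)

/-- Evaluation at `T = 1`. -/
noncomputable def evalOne (R : Type u) [CommRing R] [Algebra k R] : R[T;T⁻¹] →ₐ[k] R :=
  (AddMonoidAlgebra.lift R R ℤ 1).restrictScalars k

theorem evalOne_single (n : ℤ) (r : R) : evalOne (k := k) R (AddMonoidAlgebra.single n r) = r := by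
  simp [evalOne]

theorem evalOne_lamR : (evalOne R).comp (Dyn.lamR k A lam R) = (1 : WithConv (A →ₐ[k] R)).ofConv := by
  unfold Dyn.lamR
  rw [← AlgHom.comp_assoc, show (evalOne R).comp (AddMonoidAlgebra.mapAlgHom ℤ (Algebra.ofId k R)) =
      (Algebra.ofId k R).comp (Bialgebra.counitAlgHom k k[T;T⁻¹]) from AlgHom.ext fun p => ?_, AlgHom.comp_assoc]
  swap
  · induction p using AddMonoidAlgebra.induction_linear with
    | zero => simp
    | add x y hx hy => rw [map_add, map_add, hx, hy]
    | single n r => simp [evalOne_single]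
  refine AlgHom.ext fun a => ?_
  rw [one_apply]
  exact congrArg (algebraMap k R) (CoalgHomClass.counit_comp_apply lam a)

theorem evalOne_conjOrbit (g : A →ₐ[k] R) : (evalOne R).comp (Dyn.conjOrbit k A lam R g) = g := by
  apply toConv_injective
  rw [show Dyn.conjOrbit k A lam R g =
      (toConv (Dyn.lamR k A lam R) * toConv ((toL R).comp g) * (toConv (Dyn.lamR k A lam R))⁻¹).ofConv from
    congrArg ofConv (conjOrbit_eq_mul lam g), comp_mul, comp_mul, comp_inv, ofConv_toConv, evalOne_lamR,
    toConv_ofConv, ofConv_toConv]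
  rw [_root_.one_mul, inv_one, _root_.mul_one]
  congr 1
  exact AlgHom.ext fun a => by simp [toL_apply, evalOne_single]

theorem convMul_T (f g : WithConv (k[T;T⁻¹] →ₐ[k] C)) (n : ℤ) :
    (f * g).ofConv (T n) = f.ofConv (T n) * g.ofConv (T n) := by
  rw [AlgHom.convMul_apply, LaurentPolynomial.comul_T, Algebra.TensorProduct.lift_tmul]

/-- `a T^n ↦ a T^n S^n`. -/
noncomputable def psiL (R : Type u) [CommRing R] [Algebra k R] : R[T;T⁻¹] →ₐ[k] (R[T;T⁻¹])[T;T⁻¹] :=
  AddMonoidAlgebra.liftNCAlgHom ((toL R[T;T⁻¹]).comp (toL R))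
    { toFun := fun n => AddMonoidAlgebra.single n.toAdd (T n.toAdd : R[T;T⁻¹])
      map_one' := by simp [AddMonoidAlgebra.one_def]
      map_mul' := fun m n => by
        simp only [toAdd_mul, T_add]
        exact (AddMonoidAlgebra.single_mul_single ..).symm }
    fun _ _ => Commute.all _ _

theorem psiL_single (n : ℤ) (r : R) :
    psiL (k := k) R (AddMonoidAlgebra.single n r) =
      AddMonoidAlgebra.single n (AddMonoidAlgebra.single n r : R[T;T⁻¹]) := by
  simp [psiL, toL_apply, AddMonoidAlgebra.single_mul_single, T]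

theorem coeff_psiL (p : R[T;T⁻¹]) (n : ℤ) :
    (psiL (k := k) R p).coeff n = AddMonoidAlgebra.single n (p.coeff n) := by
  classical
  induction p using AddMonoidAlgebra.induction_linear with
  | zero => simp
  | add x y hx hy => simp [hx, hy]
  | single m r =>
    rw [psiL_single]
    by_cases h : m = n
    · subst h; simp
    · simp [Finsupp.single_apply, h]

theorem cL_comp_cL : (mapL k (cL lam)).comp (cL lam) = (psiL A).comp (cL lam) := by
  rw [← conjOrbit_eq]
  apply toConv_injective
  have hc : cL lam = (toConv (Dyn.lamR k A lam A) * toConv ((toL A).comp (AlgHom.id k A)) *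
      (toConv (Dyn.lamR k A lam A))⁻¹).ofConv := congrArg ofConv (conjOrbit_eq_mul lam (AlgHom.id k A))
  rw [conjOrbit_eq_mul, hc, comp_mul, comp_mul, comp_inv, ofConv_toConv, ofConv_toConv,
    comp_mul, comp_mul, comp_inv, ofConv_toConv, ofConv_toConv]
  have h1 : toConv ((psiL A).comp (Dyn.lamR k A lam A)) =
      toConv (Dyn.lamR k A lam A[T;T⁻¹]) * toConv ((toL A[T;T⁻¹]).comp (Dyn.lamR k A lam A)) := by
    unfold Dyn.lamR
    rw [← AlgHom.comp_assoc, ← AlgHom.comp_assoc]
    refine Eq.trans ?_ (GrothLib.Hopf.convMul_comp_bialgHom lam (toConv _) (toConv _))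
    congr 2
    refine AlgHom.ext fun p => ?_
    induction p using AddMonoidAlgebra.induction_linear with
    | zero => simp
    | add x y hx hy => rw [map_add, map_add, hx, hy]
    | single n r =>
      rw [show AddMonoidAlgebra.single n r = r • (T n : k[T;T⁻¹]) by simp [T], map_smul, map_smul]
      congr 1
      refine Eq.trans ?_ (convMul_T (k := k) (toConv _) (toConv _) n).symm
      simp [psiL_single, toL_apply, AddMonoidAlgebra.single_mul_single, T]
  have h2 : (psiL A).comp ((toL A).comp (AlgHom.id k A)) = (toL A[T;T⁻¹]).comp ((toL A).comp (AlgHom.id k A)) :=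
    AlgHom.ext fun a => by simp [toL_apply, psiL_single]
  rw [h1, h2]
  erw [mul_inv_rev (toConv (Dyn.lamR k A lam A[T;T⁻¹]))]
  group

theorem co_co (m n : ℤ) (a : A) : co lam m (co lam n a) = if m = n then co lam n a else 0 := by
  classical
  have h := DFunLike.congr_fun (cL_comp_cL lam) a
  have h1 := congrArg (fun p => (p.coeff n).coeff m) h
  simp only [AlgHom.comp_apply, coeff_mapL, coeff_psiL, AddMonoidAlgebra.coeff_single, Finsupp.single_apply] at h1
  rw [co_apply, co_apply, h1]
  exact ite_congr (propext eq_comm) (fun _ => rfl) (fun _ => rfl)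

theorem evalOne_eq_sum (p : R[T;T⁻¹]) : evalOne (k := k) R p = p.coeff.sum fun _ r => r := by
  classical
  induction p using AddMonoidAlgebra.induction_linear with
  | zero => simp
  | add x y hx hy => rw [map_add, hx, hy, AddMonoidAlgebra.coeff_add, Finsupp.sum_add_index'] <;> simp
  | single m r => simp [evalOne_single]

theorem toLaurent_coeff (p : Polynomial R) (n : ℤ) :
    (Polynomial.toLaurent p).coeff n = if 0 ≤ n then p.coeff n.toNat else 0 := by
  classical
  induction p using Polynomial.induction_on' with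
  | add x y hx hy =>
    rw [map_add, AddMonoidAlgebra.coeff_add, Finsupp.add_apply, hx, hy, Polynomial.coeff_add]
    split_ifs <;> simp
  | monomial m r =>
    rw [← Polynomial.C_mul_X_pow_eq_monomial, Polynomial.toLaurent_C_mul_X_pow, ← single_eq_C_mul_T,
      AddMonoidAlgebra.coeff_single, Finsupp.single_apply, Polynomial.coeff_C_mul_X_pow]
    split_ifs <;> first | rfl | (exfalso; omega)

theorem mem_range_toLaurent {p : R[T;T⁻¹]} (h : ∀ n < 0, p.coeff n = 0) :
    p ∈ ((Polynomial.toLaurentAlg (R := R)).restrictScalars k).range := by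
  classical
  have : p = ∑ n ∈ p.coeff.support, AddMonoidAlgebra.single n (p.coeff n) := by
    refine AddMonoidAlgebra.coeff_injective ?_
    simp only [AddMonoidAlgebra.coeff_sum, AddMonoidAlgebra.coeff_single]
    exact (Finsupp.sum_single p.coeff).symm
  rw [this]
  refine Subalgebra.sum_mem _ fun n hn => ?_
  have hn0 : 0 ≤ n := not_lt.1 fun hlt => Finsupp.mem_support_iff.1 hn (h n hlt)
  obtain ⟨m, rfl⟩ := Int.eq_ofNat_of_zero_le hn0
  exact ⟨Polynomial.C (p.coeff m) * Polynomial.X ^ m, by simp [single_eq_C_mul_T]⟩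

theorem toLaurentR_injective :
    Function.Injective ((Polynomial.toLaurentAlg (R := R)).restrictScalars k) := Polynomial.toLaurent_injective

theorem aeval_zero_eq (p : Polynomial R) : Polynomial.aeval (0 : R) p = (Polynomial.toLaurent p).coeff 0 := by
  rw [toLaurent_coeff]
  simp [Polynomial.coeff_zero_eq_eval_zero]

theorem limExists_iff (g : A →ₐ[k] R) :
    Dyn.LimExists k A lam R g ↔ ∀ n < 0, ∀ a, g (co lam n a) = 0 := by
  constructor
  · rintro ⟨h, hh⟩ n hn a
    rw [← coeff_conjOrbit, ← hh]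
    exact (toLaurent_coeff _ n).trans (if_neg (not_le.2 hn))
  · intro h
    let ι := (Polynomial.toLaurentAlg (R := R)).restrictScalars k
    have hmem : ∀ a, Dyn.conjOrbit k A lam R g a ∈ ι.range := fun a =>
      mem_range_toLaurent fun n hn => by rw [coeff_conjOrbit]; exact h n hn a
    refine ⟨(AlgEquiv.ofInjective ι toLaurentR_injective).symm.toAlgHom.comp
      ((Dyn.conjOrbit k A lam R g).codRestrict ι.range hmem), AlgHom.ext fun a => ?_⟩
    exact congrArg Subtype.val ((AlgEquiv.ofInjective ι toLaurentR_injective).apply_symm_apply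
      ⟨Dyn.conjOrbit k A lam R g a, hmem a⟩)

theorem limIsOne_iff (g : A →ₐ[k] R) :
    Dyn.LimIsOne k A lam R g ↔
      (∀ n < 0, ∀ a, g (co lam n a) = 0) ∧ ∀ a, g (co lam 0 a) = algebraMap k R (Coalgebra.counit a) := by
  have key : ∀ h : A →ₐ[k] Polynomial R,
      ((Polynomial.toLaurentAlg (R := R)).restrictScalars k).comp h = Dyn.conjOrbit k A lam R g →
      ∀ a, Polynomial.aeval (0 : R) (h a) = g (co lam 0 a) := fun h hh a => by
    rw [aeval_zero_eq, ← coeff_conjOrbit, ← hh]
    rfl
  constructor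
  · rintro ⟨h, hh, h0⟩
    exact ⟨(limExists_iff lam g).1 ⟨h, hh⟩, fun a => by rw [← key h hh a]; exact DFunLike.congr_fun h0 a⟩
  · rintro ⟨h1, h2⟩
    obtain ⟨h, hh⟩ := (limExists_iff lam g).2 h1
    exact ⟨h, hh, AlgHom.ext fun a => (key h hh a).trans (h2 a)⟩

theorem conjOrbit_eq_const_iff (g : A →ₐ[k] R) :
    Dyn.conjOrbit k A lam R g = (toL R).comp g ↔ ∀ n, n ≠ 0 → ∀ a, g (co lam n a) = 0 := by
  classical
  constructor
  · intro h n hn a
    rw [← coeff_conjOrbit, h, AlgHom.comp_apply, toL_apply, AddMonoidAlgebra.coeff_single,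
      Finsupp.single_eq_of_ne hn]
  · intro h
    refine AlgHom.ext fun a => ?_
    have hs : Dyn.conjOrbit k A lam R g a = AddMonoidAlgebra.single 0 ((Dyn.conjOrbit k A lam R g a).coeff 0) :=
      AddMonoidAlgebra.ext (Finsupp.ext fun n => by
        rw [AddMonoidAlgebra.coeff_single, Finsupp.single_apply]
        split_ifs with hn
        · rw [← hn]
        · rw [coeff_conjOrbit]; exact h n (Ne.symm hn) a)
    have he := DFunLike.congr_fun (evalOne_conjOrbit lam g) a
    rw [AlgHom.comp_apply, hs, evalOne_single] at he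
    rw [hs, he, AlgHom.comp_apply, toL_apply]

end GrothLib.DynMeth
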