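import Groth.Agent.Lib.DynMeth.Embedded
import Groth.Agent.Lib.GrpSchField.Components
import Mathlib.AlgebraicGeometry.Group.Affine
import Mathlib.RingTheory.Bialgebra.MonoidAlgebra
import Mathlib.RingTheory.Spectrum.Prime.Topology

/-!
The parabolic group of a connected group is connected.
-/

universe u

open LaurentPolynomial TensorProduct WithConv CategoryTheory AlgebraicGeometry

attribute [-simp] LaurentPolynomial.single_eq_C_mul_T

set_option linter.style.haveILetI false

namespace GrothLib.DynMeth

section

variable {k : Type u} [Field k] {A : Type u} [CommRing A] [HopfAlgebra k A]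

/-- A connected affine group of finite type over a field is irreducible. -/
theorem irreducibleSpace_of_idempotents [Algebra.FiniteType k A]
    (hconn : ∀ e : A, IsIdempotentElem e → e = 0 ∨ e = 1) : IrreducibleSpace (PrimeSpectrum A) := by
  haveI : Nontrivial A := (Bialgebra.counitAlgHom k A).toRingHom.domain_nontrivial
  haveI hc : ConnectedSpace (PrimeSpectrum A) := by
    refine connectedSpace_iff_clopen.mpr ⟨inferInstance, fun s hs => ?_⟩
    obtain ⟨e, he, rfl⟩ := PrimeSpectrum.exists_idempotent_basicOpen_eq_of_isClopen hs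
    rcases hconn e he with rfl | rfl
    · left; simp
    · right; simp
  let G := (hopfSpec (CommRingCat.of k)).obj (Opposite.op (CommHopfAlgCat.of k A))
  haveI : LocallyOfFiniteType G.X.hom := by
    change LocallyOfFiniteType (Spec.map (CommRingCat.ofHom (algebraMap k A)))
    rw [HasRingHomProperty.Spec_iff (P := @LocallyOfFiniteType)]
    exact RingHom.finiteType_algebraMap.mpr inferInstance
  let o : PrimeSpectrum A := ⟨RingHom.ker (Bialgebra.counitAlgHom k A), RingHom.ker_isPrime _⟩
  have h := GrothLib.GrpSchField.connectedComponent_eq_irreducibleComponent G.X (show G.X.left from o)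
  have huniv : irreducibleComponent o = (Set.univ : Set (PrimeSpectrum A)) :=
    h.symm.trans (show connectedComponent o = Set.univ from PreconnectedSpace.connectedComponent_eq_univ o)
  exact { isPreirreducible_univ := huniv ▸ isIrreducible_irreducibleComponent.2, toNonempty := ⟨o⟩ }

/-- An open subscheme of an irreducible affine scheme has no idempotents. -/
theorem idempotent_of_openImmersion {A B : Type u} [CommRing A] [CommRing B] (m : A →+* B)
    [IsOpenImmersion (Spec.map (CommRingCat.ofHom m))] [IrreducibleSpace (PrimeSpectrum A)] {e : B}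
    (he : IsIdempotentElem e) : e = 0 ∨ e = 1 := by
  have hj : Topology.IsOpenEmbedding (Spec.map (CommRingCat.ofHom m)) :=
    (Spec.map (CommRingCat.ofHom m)).isOpenEmbedding
  haveI : IrreducibleSpace (Spec (CommRingCat.of A)) := ‹IrreducibleSpace (PrimeSpectrum A)›
  have hpre : _root_.IsPreconnected (Set.univ : Set (Spec (CommRingCat.of B))) := by
    rw [← hj.isInducing.isPreconnected_image, Set.image_univ]
    exact ((PreirreducibleSpace.isPreirreducible_univ).open_subset hj.isOpen_range
      (Set.subset_univ _)).isPreconnected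
  haveI : PreconnectedSpace (PrimeSpectrum B) := ⟨hpre⟩
  rcases isClopen_iff.1 (PrimeSpectrum.isClopen_iff.2 ⟨e, he, rfl⟩) with h | h
  · exact Or.inl (PrimeSpectrum.basicOpen_injOn_isIdempotentElem he IsIdempotentElem.zero
      (SetLike.coe_injective (by simpa using h)))
  · exact Or.inr (PrimeSpectrum.basicOpen_injOn_isIdempotentElem he IsIdempotentElem.one
      (SetLike.coe_injective (by simpa using h)))

variable (lam : A →ₐc[k] k[T;T⁻¹])

/-- The opposite one-parameter subgroup as a bialgebra map. -/
noncomputable def negHom : A →ₐc[k] k[T;T⁻¹] :=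
  (AddMonoidAlgebra.mapDomainBialgHom k (-AddMonoidHom.id ℤ)).comp lam

theorem negHom_eq : (negHom lam : A →ₐ[k] k[T;T⁻¹]) = Dyn.negParam k A lam := by
  refine AlgHom.ext fun a => ?_
  refine LaurentPolynomial.ext fun n => ?_
  simp [negHom, Dyn.negParam]
  conv_lhs => rw [show n = (-AddMonoidHom.id ℤ) (-n) by simp]
  exact Finsupp.mapDomain_apply (fun x y h => by simpa using h) _ _

end

variable {k : Type u} [Field k] {A A' : Type u} [CommRing A] [HopfAlgebra k A] [CommRing A'] [HopfAlgebra k A']
  [Algebra.FiniteType k A'] [Algebra.FormallySmooth k A']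
  (φ : A' →ₐc[k] A) (hφ : Function.Surjective φ) (lam : A →ₐc[k] k[T;T⁻¹])

include hφ in
theorem idempotent_limExists {Jp : Ideal A} (hp : Dyn.Represents k A Jp (fun R _ _ g => Dyn.LimExists k A lam R g))
    (hconn : ∀ e : A, IsIdempotentElem e → e = 0 ∨ e = 1) {e : A ⧸ Jp} (he : IsIdempotentElem e) :
    e = 0 ∨ e = 1 := by
  haveI : Algebra.FiniteType k A := Algebra.FiniteType.of_surjective (φ : A' →ₐ[k] A) hφ
  haveI := irreducibleSpace_of_idempotents (k := k) hconn
  let Jm := idealLimOne (negHom lam)
  haveI : Jm.IsHopfIdeal k := isHopfIdeal_idealLimOne _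
  haveI := isOpenImmersion_mul_embedded φ hφ lam (negHom lam) (negHom_eq lam) hp (represents_idealLimOne _)
  let ε : A ⧸ Jm →ₐ[k] k := Bialgebra.counitAlgHom k (A ⧸ Jm)
  let r : (A ⧸ Jm) ⊗[k] (A ⧸ Jp) →ₐ[k] A ⧸ Jp :=
    Algebra.TensorProduct.lift ((Algebra.ofId k _).comp ε) (AlgHom.id k _) (fun _ _ => Commute.all _ _)
  have hr : r ((1 : A ⧸ Jm) ⊗ₜ[k] e) = e := by simp [r]
  rcases idempotent_of_openImmersion (mulHom (k := k) Jm Jp).toRingHom
    (e := (1 : A ⧸ Jm) ⊗ₜ[k] e) (he.map (Algebra.TensorProduct.includeRight (R := k) (A := A ⧸ Jm))) with h | h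
  · exact Or.inl (by rw [← hr, h, map_zero])
  · exact Or.inr (by rw [← hr, h, map_one])

end GrothLib.DynMeth
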