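import Groth.Agent.Lib.DynMeth.OpenImm
import Groth.Agent.Lib.HopfAG.LineStab
import Groth.Agent.Lib.HopfAG.PointAct

/-!
Subgroups of smooth groups: the big cell restricts.
-/

universe u

open LaurentPolynomial TensorProduct WithConv

attribute [-simp] LaurentPolynomial.single_eq_C_mul_T

set_option linter.style.haveILetI false

namespace GrothLib.DynMeth

section Functorial

variable {k : Type u} [CommRing k] {A A' : Type u} [CommRing A] [HopfAlgebra k A] [CommRing A'] [HopfAlgebra k A']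
  (φ : A' →ₐc[k] A) {R : Type u} [CommRing R] [Algebra k R]

/-- Pulling back a point along a homomorphism. -/
noncomputable abbrev pullPt (g : WithConv (A →ₐ[k] R)) : WithConv (A' →ₐ[k] R) :=
  toConv (g.ofConv.comp (φ : A' →ₐ[k] A))

theorem pullPt_mul (f g : WithConv (A →ₐ[k] R)) : pullPt φ (f * g) = pullPt φ f * pullPt φ g :=
  GrothLib.Hopf.convMul_comp_bialgHom φ f g

theorem pullPt_one : pullPt φ (1 : WithConv (A →ₐ[k] R)) = 1 := by
  rw [pullPt, GrothLib.Hopf.convOne_comp_bialgHom, toConv_ofConv]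

theorem pullPt_inv (f : WithConv (A →ₐ[k] R)) : pullPt φ f⁻¹ = (pullPt φ f)⁻¹ :=
  (inv_eq_of_mul_eq_one_left (by rw [← pullPt_mul, inv_mul_cancel, pullPt_one])).symm

variable (lam : A →ₐc[k] k[T;T⁻¹])

theorem conjOrbit_pull (g : A →ₐ[k] R) :
    Dyn.conjOrbit k A' (lam.comp φ) R (g.comp (φ : A' →ₐ[k] A)) =
      (Dyn.conjOrbit k A lam R g).comp (φ : A' →ₐ[k] A) := by
  apply toConv_injective
  change _ = pullPt φ (toConv (Dyn.conjOrbit k A lam R g))
  rw [conjOrbit_eq_mul, conjOrbit_eq_mul, pullPt_mul, pullPt_mul, pullPt_inv]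
  rfl

theorem apply_co_pull (g : A →ₐ[k] R) (n : ℤ) (a : A') :
    g (φ (co (lam.comp φ) n a)) = g (co lam n (φ a)) := by
  have h := congrArg (fun p => p.coeff n) (DFunLike.congr_fun (conjOrbit_pull φ lam g) a)
  simp only [AlgHom.comp_apply, coeff_conjOrbit] at h
  exact h

variable (hφ : Function.Surjective φ)

include hφ in
theorem limExists_pull (g : A →ₐ[k] R) :
    Dyn.LimExists k A' (lam.comp φ) R (g.comp (φ : A' →ₐ[k] A)) ↔ Dyn.LimExists k A lam R g := by
  rw [limExists_iff, limExists_iff]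
  constructor
  · intro h n hn a
    obtain ⟨a', rfl⟩ := hφ a
    rw [← apply_co_pull]
    exact h n hn a'
  · intro h n hn a
    exact (apply_co_pull φ lam g n a).trans (h n hn _)

include hφ in
theorem limIsOne_pull (g : A →ₐ[k] R) :
    Dyn.LimIsOne k A' (lam.comp φ) R (g.comp (φ : A' →ₐ[k] A)) ↔ Dyn.LimIsOne k A lam R g := by
  rw [limIsOne_iff, limIsOne_iff]
  constructor
  · intro h
    refine ⟨fun n hn a => ?_, fun a => ?_⟩
    · obtain ⟨a', rfl⟩ := hφ a
      rw [← apply_co_pull]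
      exact h.1 n hn a'
    · obtain ⟨a', rfl⟩ := hφ a
      rw [← apply_co_pull, CoalgHomClass.counit_comp_apply]
      exact h.2 a'
  · intro h
    refine ⟨fun n hn a => (apply_co_pull φ lam g n a).trans (h.1 n hn _), fun a => ?_⟩
    refine (apply_co_pull φ lam g 0 a).trans ((h.2 _).trans ?_)
    rw [CoalgHomClass.counit_comp_apply]

end Functorial

variable {k : Type u} [Field k] {A A' : Type u} [CommRing A] [HopfAlgebra k A] [CommRing A'] [HopfAlgebra k A']
  (φ : A' →ₐc[k] A) (hφ : Function.Surjective φ) (lam lamNeg : A →ₐc[k] k[T;T⁻¹])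
  (hneg : (lamNeg : A →ₐ[k] k[T;T⁻¹]) = Dyn.negParam k A lam)

theorem factor {R : Type u} [CommRing R] [Algebra k R] (x : WithConv (A' →ₐ[k] R))
    (hφ : Function.Surjective φ) (h : ∀ a, φ a = 0 → x.ofConv a = 0) :
    ∃ y : WithConv (A →ₐ[k] R), pullPt φ y = x := by
  let e := Ideal.quotientKerAlgEquivOfSurjective (f := (φ : A' →ₐ[k] A)) hφ
  refine ⟨toConv ((Ideal.Quotient.liftₐ _ x.ofConv (fun a ha => h a ha)).comp e.symm.toAlgHom), ?_⟩
  refine WithConv.ofConv_injective (AlgHom.ext fun a => ?_)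
  have : e.symm (φ a) = Ideal.Quotient.mk _ a := e.injective (by simp [e])
  simp [this]

theorem G_stab {C : Type u} [CommRing C] [Algebra k C] {V : Type u} [AddCommGroup V] [Module k V]
    [HopfRep.Comod k A' V] (x : A' →ₐ[k] C) {v : V} {r : C}
    (h : x.toLinearMap.lTensor V (HopfRep.Comod.coact v) = v ⊗ₜ[k] r) :
    GrothLib.PointAct.G x ((1 : C) ⊗ₜ[k] v) = r • ((1 : C) ⊗ₜ[k] v) := by
  rw [GrothLib.PointAct.G_tmul, one_smul, h, TensorProduct.comm_tmul, TensorProduct.smul_tmul', smul_eq_mul,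
    _root_.mul_one]

theorem coord_G {C : Type u} [CommRing C] [Algebra k C] {V : Type u} [AddCommGroup V] [Module k V]
    [cV : HopfRep.Comod k A' V] {ι : Type*} (b : Module.Basis ι k V) (x : A' →ₐ[k] C) (v : V) (i : ι) :
    (Algebra.TensorProduct.basis C b).repr (GrothLib.PointAct.G x ((1 : C) ⊗ₜ[k] v)) i =
      x (GrothLib.Comodule.cfOf cV (b.coord i) v) := by
  rw [GrothLib.PointAct.G_tmul, one_smul, GrothLib.Comodule.cfOf_apply]
  induction cV.coact v using TensorProduct.induction_on with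
  | zero => simp
  | add y z hy hz => simp only [map_add, Finsupp.add_apply, hy, hz]
  | tmul y z => simp [mul_comm, Algebra.smul_def]

include hφ hneg in
/-- A factorisation in the big cell of the ambient group of a point of the subgroup lies in the subgroup. -/
theorem exists_factor_cell [Algebra.FiniteType k A'] {R : Type u} [CommRing R] [Algebra k R]
    (g : WithConv (A →ₐ[k] R)) (u p : WithConv (A' →ₐ[k] R)) (hu : Dyn.LimIsOne k A' (lamNeg.comp φ) R u.ofConv)
    (hp : Dyn.LimExists k A' (lam.comp φ) R p.ofConv) (hup : u * p = pullPt φ g) :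
    ∃ u₀ p₀ : WithConv (A →ₐ[k] R), pullPt φ u₀ = u ∧ pullPt φ p₀ = p ∧ u₀ * p₀ = g := by
  have hinj : ∀ {x y : WithConv (A →ₐ[k] R)}, pullPt φ x = pullPt φ y → x = y := fun {x y} h =>
    WithConv.ofConv_injective (AlgHom.ext fun a => by
      obtain ⟨a', rfl⟩ := hφ a
      exact DFunLike.congr_fun (congrArg ofConv h) a')
  let I : Ideal A' := RingHom.ker (φ : A' →ₐ[k] A)
  haveI : I.IsHopfIdeal k := isHopfIdeal_of_represents I
    (fun R _ _ g => ∀ a, φ a = 0 → g a = 0)
    (fun R _ _ g => ⟨fun h a ha => h a ha, fun h a ha => h a ha⟩)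
    (fun a ha => by rw [one_apply, Algebra.algebraMap_self_apply, ← CoalgHomClass.counit_comp_apply φ, ha, map_zero])
    (fun R _ _ f g hf hg a ha => by
      obtain ⟨f', rfl⟩ := factor φ f hφ hf
      obtain ⟨g', rfl⟩ := factor φ g hφ hg
      rw [← pullPt_mul]
      simp [ha])
    (fun R _ _ f hf a ha => by
      obtain ⟨f', rfl⟩ := factor φ f hφ hf
      rw [← pullPt_inv]
      simp [ha])
  obtain ⟨V, _, _, cV, _, v, hv, hrep⟩ := GrothLib.LineStab.exists_line (k := k) I
  let b := Module.Free.chooseBasis k V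
  let C := R[T;T⁻¹]
  -- the multiplier of the orbit of `g` is constant
  obtain ⟨c₀, hc₀⟩ := (hrep R (pullPt φ g).ofConv).1 fun a ha => by
    change g.ofConv (φ a) = 0
    rw [show φ a = 0 from ha, map_zero]
  have hu₀ : IsUnit c₀ := GrothLib.LineStab.isUnit_of_stab cV _ hv hc₀
  let L : WithConv (A' →ₐ[k] C) := toConv (Dyn.lamR k A' (lam.comp φ) R)
  have hL : L = pullPt φ (toConv (Dyn.lamR k A lam R)) := rfl
  obtain ⟨r, hr⟩ := (hrep C L.ofConv).1 fun a ha => by
    rw [hL]
    change Dyn.lamR k A lam R (φ a) = 0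
    rw [show φ a = 0 from ha, map_zero]
  obtain ⟨r', hr'⟩ := (hrep C L⁻¹.ofConv).1 fun a ha => by
    rw [hL, ← pullPt_inv]
    change (toConv (Dyn.lamR k A lam R))⁻¹.ofConv (φ a) = 0
    rw [show φ a = 0 from ha, map_zero]
  have hM : ((toL R).comp (pullPt φ g).ofConv).toLinearMap.lTensor V (cV.coact v) =
      v ⊗ₜ[k] toL (k := k) R c₀ := by
    rw [show ((toL R).comp (pullPt φ g).ofConv).toLinearMap =
      (toL R).toLinearMap ∘ₗ (pullPt φ g).ofConv.toLinearMap from rfl, LinearMap.lTensor_comp, LinearMap.comp_apply,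
      hc₀, LinearMap.lTensor_tmul]
    rfl
  have hcoordv : ∃ i, b.coord i v ≠ 0 := by
    by_contra h
    push Not at h
    exact hv (b.ext_elem fun i => by simpa using h i)
  have hrr : r' * r = 1 := by
    have h1 := DFunLike.congr_fun (GrothLib.PointAct.G_mul (V := V) L⁻¹.ofConv L.ofConv) ((1 : C) ⊗ₜ[k] v)
    rw [toConv_ofConv, toConv_ofConv, inv_mul_cancel, GrothLib.PointAct.G_one, LinearMap.id_apply,
      LinearMap.comp_apply, G_stab _ hr, map_smul, G_stab _ hr', smul_smul] at h1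
    obtain ⟨i, hi⟩ := hcoordv
    have h2 := congrArg (fun z => (Algebra.TensorProduct.basis C b).repr z i) h1
    simp only [map_smul, Finsupp.smul_apply, smul_eq_mul, Algebra.TensorProduct.basis_repr_tmul, _root_.one_smul,
      Finsupp.mapRange_apply] at h2
    have hb : IsUnit (algebraMap k C (b.repr v i)) := (IsUnit.mk0 _ (by simpa using hi)).map _
    refine hb.mul_right_cancel ?_
    linear_combination h2.symm
  let cu := toConv (Dyn.conjOrbit k A' (lam.comp φ) R u.ofConv)
  let cp := toConv (Dyn.conjOrbit k A' (lam.comp φ) R p.ofConv)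
  have e1 : GrothLib.PointAct.G (cu * cp).ofConv ((1 : C) ⊗ₜ[k] v) = toL (k := k) R c₀ • ((1 : C) ⊗ₜ[k] v) := by
    rw [show cu * cp = toConv (Dyn.conjOrbit k A' (lam.comp φ) R (u * p).ofConv) from
      (conjOrbit_mul _ u p).symm, hup, conjOrbit_eq_mul]
    have hm := fun x y : WithConv (A' →ₐ[k] C) => GrothLib.PointAct.G_mul (V := V) x.ofConv y.ofConv
    simp only [toConv_ofConv] at hm
    rw [hm, hm, LinearMap.comp_apply, LinearMap.comp_apply, G_stab L⁻¹.ofConv hr', map_smul,
      G_stab (toConv ((toL R).comp (pullPt φ g).ofConv)).ofConv hM, map_smul, map_smul, G_stab L.ofConv hr,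
      smul_smul, smul_smul, mul_right_comm, hrr, _root_.one_mul]
  have e2 : GrothLib.PointAct.G cp.ofConv ((1 : C) ⊗ₜ[k] v) =
      toL (k := k) R c₀ • GrothLib.PointAct.G (cu⁻¹).ofConv ((1 : C) ⊗ₜ[k] v) := by
    rw [← map_smul, ← e1]
    have hm := GrothLib.PointAct.G_mul (V := V) (cu⁻¹).ofConv (cu * cp).ofConv
    rw [toConv_ofConv, toConv_ofConv, inv_mul_cancel_left] at hm
    exact DFunLike.congr_fun hm _
  have hneg' : ((lamNeg.comp φ : A' →ₐc[k] k[T;T⁻¹]) : A' →ₐ[k] k[T;T⁻¹]) = Dyn.negParam k A' (lam.comp φ) :=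
    AlgHom.ext fun x => DFunLike.congr_fun hneg (φ x)
  have hu' := (limIsOne_iff _ _).1 (limIsOne_inv (lamNeg.comp φ) hu)
  have hp' := (limExists_iff _ _).1 hp
  have hcu : cu⁻¹ = toConv (Dyn.conjOrbit k A' (lam.comp φ) R (u⁻¹).ofConv) := (conjOrbit_inv _ u).symm
  -- the coefficients are constants
  have hval : ∀ i, (u⁻¹).ofConv (GrothLib.Comodule.cfOf cV (b.coord i) v) = b.coord i v • (1 : R) := by
    intro i
    have e3 := congrArg (fun z => (Algebra.TensorProduct.basis C b).repr z i) e2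
    simp only [map_smul, Finsupp.smul_apply, coord_G, smul_eq_mul] at e3
    have hε := coord_G b (1 : WithConv (A' →ₐ[k] R)).ofConv v i
    rw [GrothLib.PointAct.G_one, LinearMap.id_apply, Algebra.TensorProduct.basis_repr_tmul, _root_.one_smul,
      Finsupp.mapRange_apply, one_apply] at hε
    generalize GrothLib.Comodule.cfOf cV (b.coord i) v = a at e3 hε ⊢
    have hx : (cu⁻¹).ofConv a = toL (k := k) R (b.coord i v • (1 : R)) := by
      ext n
      rw [toL_apply, AddMonoidAlgebra.coeff_single, hcu, ofConv_toConv, coeff_conjOrbit]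
      rcases lt_trichotomy n 0 with hn | rfl | hn
      · rw [Finsupp.single_eq_of_ne hn.ne]
        have h4 := congrArg (fun q => q.coeff n) e3
        rw [ofConv_toConv, coeff_conjOrbit, hp' n hn a, hcu, ofConv_toConv, toL_apply] at h4
        simp only [AddMonoidAlgebra.coeff_single_zero_mul, coeff_conjOrbit] at h4
        exact (coeff_conjOrbit (lam.comp φ) (u⁻¹).ofConv a n).symm.trans (hu₀.mul_right_eq_zero.1 h4.symm)
      · rw [Finsupp.single_eq_same, ← Algebra.algebraMap_eq_smul_one]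
        have := hu'.2 a
        rw [co_neg (lam.comp φ) (lamNeg.comp φ) hneg', neg_zero] at this
        exact this.trans (hε.symm.trans rfl)
      · rw [Finsupp.single_eq_of_ne hn.ne']
        have := hu'.1 (-n) (by omega) a
        rwa [co_neg (lam.comp φ) (lamNeg.comp φ) hneg', neg_neg] at this
    have h5 := congrArg (evalOne (k := k) R) hx
    rw [toL_apply, evalOne_single, hcu, ofConv_toConv] at h5
    exact (DFunLike.congr_fun (evalOne_conjOrbit (lam.comp φ) (u⁻¹).ofConv) a).symm.trans h5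
  obtain ⟨w, hw⟩ := factor φ (u⁻¹) hφ ((hrep R (u⁻¹).ofConv).2
    ⟨1, (GrothLib.LineStab.coact_eq_iff b cV _ v v 1).2 hval⟩)
  refine ⟨w⁻¹, w * g, by rw [pullPt_inv, hw, inv_inv], ?_, inv_mul_cancel_left w g⟩
  rw [pullPt_mul, hw, ← hup, inv_mul_cancel_left]

include hφ hneg in
/-- For a closed subgroup of a smooth group, multiplication on the big cell is an open immersion. -/
theorem isOpenImmersion_mul_embedded [Algebra.FiniteType k A'] [Algebra.FormallySmooth k A'] {Jp Jm : Ideal A}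
    (hp : Dyn.Represents k A Jp (fun R _ _ g => Dyn.LimExists k A lam R g))
    (hm : Dyn.Represents k A Jm (fun R _ _ g => Dyn.LimIsOne k A lamNeg R g)) :
    AlgebraicGeometry.IsOpenImmersion (AlgebraicGeometry.Spec.map
      (CommRingCat.ofHom (mulHom (k := k) Jm Jp).toRingHom)) := by
  haveI : Algebra.FiniteType k A := Algebra.FiniteType.of_surjective (φ : A' →ₐ[k] A) hφ
  haveI : Algebra.FinitePresentation k A' := Algebra.FinitePresentation.of_finiteType.1 inferInstance
  haveI : Algebra.FiniteType k (A ⧸ Jm) :=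
    Algebra.FiniteType.of_surjective (Ideal.Quotient.mkₐ k Jm) (Ideal.Quotient.mkₐ_surjective k _)
  haveI : Algebra.FiniteType k (A ⧸ Jp) :=
    Algebra.FiniteType.of_surjective (Ideal.Quotient.mkₐ k Jp) (Ideal.Quotient.mkₐ_surjective k _)
  haveI : Algebra.FinitePresentation k (A ⧸ Jm) := Algebra.FinitePresentation.of_finiteType.1 inferInstance
  haveI : Algebra.FinitePresentation k (A ⧸ Jp) := Algebra.FinitePresentation.of_finiteType.1 inferInstance
  haveI : Algebra.FinitePresentation k ((A ⧸ Jm) ⊗[k] (A ⧸ Jp)) := fp_tensor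
  have hneg' : ((lamNeg.comp φ : A' →ₐc[k] k[T;T⁻¹]) : A' →ₐ[k] k[T;T⁻¹]) = Dyn.negParam k A' (lam.comp φ) :=
    AlgHom.ext fun x => DFunLike.congr_fun hneg (φ x)
  refine isOpenImmersion_of_lift (k := k) (A := A) (B := (A ⧸ Jm) ⊗[k] (A ⧸ Jp)) (mulHom Jm Jp)
    (fun R _ _ f g hfg => ?_) fun R _ _ M hM g b hb => ?_
  · let u := toConv ((f.comp Algebra.TensorProduct.includeLeft).comp (Ideal.Quotient.mkₐ k Jm))
    let p := toConv ((f.comp Algebra.TensorProduct.includeRight).comp (Ideal.Quotient.mkₐ k Jp))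
    let u' := toConv ((g.comp Algebra.TensorProduct.includeLeft).comp (Ideal.Quotient.mkₐ k Jm))
    let p' := toConv ((g.comp Algebra.TensorProduct.includeRight).comp (Ideal.Quotient.mkₐ k Jp))
    have hup : u * p = u' * p' :=
      (comp_mulHom f).symm.trans ((congrArg toConv hfg).trans (comp_mulHom g))
    have hU : Dyn.LimIsOne k A lamNeg R u.ofConv := (hm _ _).1 fun a ha => by
      simp [u, Ideal.Quotient.eq_zero_iff_mem.2 ha]
    have hU' : Dyn.LimIsOne k A lamNeg R u'.ofConv := (hm _ _).1 fun a ha => by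
      simp [u', Ideal.Quotient.eq_zero_iff_mem.2 ha]
    have hP : Dyn.LimExists k A lam R p.ofConv := (hp _ _).1 fun a ha => by
      simp [p, Ideal.Quotient.eq_zero_iff_mem.2 ha]
    have hP' : Dyn.LimExists k A lam R p'.ofConv := (hp _ _).1 fun a ha => by
      simp [p', Ideal.Quotient.eq_zero_iff_mem.2 ha]
    have hw : u'⁻¹ * u = p' * p⁻¹ := by
      rw [inv_mul_eq_iff_eq_mul, ← _root_.mul_assoc, ← hup, mul_inv_cancel_right]
    have h1 : u'⁻¹ * u = 1 := eq_one_of_both lam lamNeg hneg (hw ▸ limExists_mul lam hP' (limExists_inv lam hP))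
      (limIsOne_mul lamNeg (limIsOne_inv lamNeg hU') hU)
    have huu : u' = u := inv_mul_eq_one.1 h1
    have hpp : p' = p := mul_inv_eq_one.1 (hw ▸ h1)
    refine Algebra.TensorProduct.ext (AlgHom.ext fun x => ?_) (AlgHom.ext fun x => ?_)
    · obtain ⟨a, rfl⟩ := Ideal.Quotient.mk_surjective x
      exact (DFunLike.congr_fun (congrArg ofConv huu) a).symm
    · obtain ⟨a, rfl⟩ := Ideal.Quotient.mk_surjective x
      exact (DFunLike.congr_fun (congrArg ofConv hpp) a).symm
  · let π := Ideal.Quotient.mkₐ k M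
    let ub := (b.comp Algebra.TensorProduct.includeLeft).comp (Ideal.Quotient.mkₐ k Jm)
    let pb := (b.comp Algebra.TensorProduct.includeRight).comp (Ideal.Quotient.mkₐ k Jp)
    obtain ⟨u, hu, huπ⟩ := exists_lift_limIsOne (lamNeg.comp φ) hM (ub.comp (φ : A' →ₐ[k] A))
      ((limIsOne_pull φ lamNeg hφ _).2 ((hm _ _).1 fun a ha => by simp [ub, Ideal.Quotient.eq_zero_iff_mem.2 ha]))
    obtain ⟨p, hp', hpπ⟩ := exists_lift_limExists (lam.comp φ) hM (pb.comp (φ : A' →ₐ[k] A))
      ((limExists_pull φ lam hφ _).2 ((hp _ _).1 fun a ha => by simp [pb, Ideal.Quotient.eq_zero_iff_mem.2 ha]))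
    have hπ : toConv (π.comp u.ofConv) * toConv (π.comp p.ofConv) =
        toConv (π.comp (pullPt φ (toConv g)).ofConv) := by
      rw [huπ, hpπ, ofConv_toConv, ofConv_toConv, ← AlgHom.comp_assoc, ← hb]
      change pullPt φ (toConv ub) * pullPt φ (toConv pb) = pullPt φ (toConv (b.comp (mulHom (k := k) Jm Jp)))
      rw [← pullPt_mul, comp_mulHom b]
    have hξ : Inf (M.restrictScalars k) (u⁻¹ * pullPt φ (toConv g) * p⁻¹) := by
      rw [inf_iff_comp π (fun _ => Ideal.Quotient.eq_zero_iff_mem.symm), comp_mul, comp_mul, comp_inv, comp_inv,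
        ← hπ, inv_mul_cancel_left, mul_inv_cancel]
    obtain ⟨x, y, hx, hy, hxm, hyp, hxy⟩ := exists_inf_decomp (lam.comp φ) (sq_zero hM) (lamNeg.comp φ) hneg' _ hξ
    have hprod : u * x * (y * p) = pullPt φ (toConv g) := by
      calc u * x * (y * p) = u * (x * y) * p := by simp only [_root_.mul_assoc]
        _ = pullPt φ (toConv g) := by rw [hxy]; group
    obtain ⟨u₀, p₀, hu₀, hp₀, h0⟩ := exists_factor_cell φ hφ lam lamNeg hneg (toConv g) (u * x) (y * p)
      (limIsOne_mul _ hu hxm) (limExists_mul _ hyp hp') hprod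
    have hu₀' : ∀ a ∈ Jm, u₀.ofConv a = 0 := (hm _ _).2
      ((limIsOne_pull φ lamNeg hφ _).1 (by
        have := limIsOne_mul (lamNeg.comp φ) hu hxm
        rwa [← hu₀] at this))
    have hp₀' : ∀ a ∈ Jp, p₀.ofConv a = 0 := (hp _ _).2
      ((limExists_pull φ lam hφ _).1 (by
        have := limExists_mul (lam.comp φ) hyp hp'
        rwa [← hp₀] at this))
    let b' : (A ⧸ Jm) ⊗[k] (A ⧸ Jp) →ₐ[k] R :=
      Algebra.TensorProduct.lift (Ideal.Quotient.liftₐ Jm u₀.ofConv hu₀')
        (Ideal.Quotient.liftₐ Jp p₀.ofConv hp₀') (fun _ _ => Commute.all _ _)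
    refine ⟨b', toConv_injective ?_, ?_⟩
    · rw [comp_mulHom b', ← h0]
      congr 1 <;> exact WithConv.ofConv_injective (AlgHom.ext fun a => by simp [b'])
    · have h1 : toConv (π.comp (u * x).ofConv) = toConv (π.comp u.ofConv) := by
        rw [comp_mul, comp_of_inf hx, _root_.mul_one]
      have h2 : toConv (π.comp (y * p).ofConv) = toConv (π.comp p.ofConv) := by
        rw [comp_mul, comp_of_inf hy, _root_.one_mul]
      refine Algebra.TensorProduct.ext (AlgHom.ext fun z => ?_) (AlgHom.ext fun z => ?_)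
      · obtain ⟨a, rfl⟩ := Ideal.Quotient.mk_surjective z
        obtain ⟨a', rfl⟩ := hφ a
        refine Eq.trans ?_ (DFunLike.congr_fun ((congrArg ofConv h1).trans huπ) a')
        simp [b', π, ← hu₀]
      · obtain ⟨a, rfl⟩ := Ideal.Quotient.mk_surjective z
        obtain ⟨a', rfl⟩ := hφ a
        refine Eq.trans ?_ (DFunLike.congr_fun ((congrArg ofConv h2).trans hpπ) a')
        simp [b', π, ← hp₀]

end GrothLib.DynMeth
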