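import Mathlib.RingTheory.Smooth.Flat
import Mathlib.AlgebraicGeometry.Morphisms.FlatMono
import Mathlib.AlgebraicGeometry.Morphisms.FinitePresentation
import Mathlib.AlgebraicGeometry.Morphisms.Flat
import Mathlib.CategoryTheory.Adjunction.Limits
import Mathlib.AlgebraicGeometry.GammaSpecAdjunction

/-!
Ring maps which are epimorphisms with the infinitesimal lifting property give open immersions.
-/

universe u

open CategoryTheory AlgebraicGeometry

set_option linter.style.haveILetI false

namespace GrothLib.DynMeth

theorem mono_specMap {A B : Type u} [CommRing A] [CommRing B] (m : A →+* B)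
    (h : ∀ (R : Type u) [CommRing R] (f g : B →+* R), f.comp m = g.comp m → f = g) :
    Mono (Spec.map (CommRingCat.ofHom m)) := by
  haveI : Epi (CommRingCat.ofHom m) := ⟨fun {Z} f g hfg =>
    CommRingCat.hom_ext (h Z f.hom g.hom (congrArg CommRingCat.Hom.hom hfg))⟩
  haveI : Limits.PreservesLimitsOfSize.{0, 0} Scheme.Spec.{u} := ΓSpec.adjunction.rightAdjoint_preservesLimits
  exact inferInstanceAs (Mono (Scheme.Spec.map (CommRingCat.ofHom m).op))

theorem isOpenImmersion_of_lift {k A B : Type u} [CommRing k] [CommRing A] [CommRing B] [Algebra k A] [Algebra k B]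
    [Algebra.FiniteType k A] [Algebra.FinitePresentation k B] (m : A →ₐ[k] B)
    (hepi : ∀ (R : Type u) [CommRing R] [Algebra k R] (f g : B →ₐ[k] R), f.comp m = g.comp m → f = g)
    (hlift : ∀ (R : Type u) [CommRing R] [Algebra k R] (M : Ideal R), M ^ 2 = ⊥ → ∀ (g : A →ₐ[k] R) (b : B →ₐ[k] R ⧸ M),
      b.comp m = (Ideal.Quotient.mkₐ k M).comp g →
        ∃ b' : B →ₐ[k] R, b'.comp m = g ∧ (Ideal.Quotient.mkₐ k M).comp b' = b) :
    IsOpenImmersion (Spec.map (CommRingCat.ofHom m.toRingHom)) := by
  haveI : Mono (Spec.map (CommRingCat.ofHom m.toRingHom)) := by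
    refine mono_specMap _ fun R _ f g hfg => ?_
    letI : Algebra k R := (f.comp (algebraMap k B)).toAlgebra
    let f' : B →ₐ[k] R := { f with commutes' := fun _ => rfl }
    let g' : B →ₐ[k] R :=
      { g with
        commutes' := fun r => by
          have := RingHom.congr_fun hfg (algebraMap k A r)
          simp only [RingHom.comp_apply, AlgHom.toRingHom_eq_coe, RingHom.coe_coe, AlgHom.commutes] at this
          exact this.symm }
    exact congrArg AlgHom.toRingHom (hepi R f' g' (AlgHom.ext fun a => RingHom.congr_fun hfg a))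
  letI : Algebra A B := m.toRingHom.toAlgebra
  haveI : IsScalarTower k A B := IsScalarTower.of_algebraMap_eq fun r => (m.commutes r).symm
  haveI : Algebra.FinitePresentation A B := Algebra.FinitePresentation.of_restrict_scalars_finitePresentation k A B
  haveI : Algebra.FormallySmooth A B := by
    refine Algebra.FormallySmooth.of_comp_surjective fun R _ _ M hM φ => ?_
    letI : Algebra k R := ((algebraMap A R).comp (algebraMap k A)).toAlgebra
    haveI : IsScalarTower k A R := IsScalarTower.of_algebraMap_eq fun _ => rfl
    obtain ⟨b', hb', hb''⟩ := hlift R M hM (IsScalarTower.toAlgHom k A R) (φ.restrictScalars k)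
      (AlgHom.ext fun a => φ.commutes a)
    refine ⟨{ b' with commutes' := fun a => DFunLike.congr_fun hb' a }, AlgHom.ext fun x => ?_⟩
    exact DFunLike.congr_fun hb'' x
  haveI : Algebra.Smooth A B := ⟨inferInstance, inferInstance⟩
  haveI : Flat (Spec.map (CommRingCat.ofHom m.toRingHom)) := by
    rw [HasRingHomProperty.Spec_iff (P := @Flat)]
    exact (inferInstance : Module.Flat A B)
  haveI : LocallyOfFinitePresentation (Spec.map (CommRingCat.ofHom m.toRingHom)) := by
    rw [HasRingHomProperty.Spec_iff (P := @LocallyOfFinitePresentation)]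
    exact (inferInstance : Algebra.FinitePresentation A B)
  exact IsOpenImmersion.of_flat_of_mono _

end GrothLib.DynMeth
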