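import Groth.Prelude.Def_GLin3
import Mathlib.RingTheory.Smooth.Basic

/-!
The coordinate ring of `GL_n` is formally smooth.
-/

universe u

namespace GrothLib.DynMeth

variable {k : Type u} [CommRing k]

theorem formallySmooth_GLn (N : ℕ) : Algebra.FormallySmooth k (CoordGrp.GLn N k) := by
  refine Algebra.FormallySmooth.of_comp_surjective fun B _ _ I hI φ => ?_
  choose M hM using fun i j => Ideal.Quotient.mkₐ_surjective k I (φ (CoordGrp.GLn.X i j))
  have hdet : Ideal.Quotient.mkₐ k I (Matrix.det (Matrix.of M)) = φ CoordGrp.GLn.det := by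
    rw [AlgHom.map_det, show CoordGrp.GLn.det = CoordGrp.GLn.mk N k (CoordGrp.GLb.det N k) from rfl,
      CoordGrp.GLb.det, AlgHom.map_det, AlgHom.map_det]
    congr 1
    ext i j
    exact hM i j
  have hu : IsUnit (Matrix.det (Matrix.of M)) := by
    refine (IsNilpotent.isUnit_quotient_mk_iff (I := I) ⟨2, hI⟩).mp ?_
    rw [← Ideal.Quotient.mkₐ_eq_mk k I, hdet]
    exact IsUnit.of_mul_eq_one (φ CoordGrp.GLn.Dinv) (by rw [← map_mul, CoordGrp.GLn.det_mul_Dinv, map_one])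
  let ψ₀ : CoordGrp.GLb N k →ₐ[k] B := CoordGrp.GLb.aeval N k (Matrix.of M) (↑hu.unit⁻¹ : B)
  have hψ : ∀ x ∈ CoordGrp.GLb.relIdeal N k, ψ₀ x = 0 := by
    have h0 : ψ₀ (CoordGrp.GLb.rel N k) = 0 := by
      rw [CoordGrp.GLb.rel, map_sub, map_mul, map_one, CoordGrp.GLb.aeval_D, CoordGrp.GLb.det, AlgHom.map_det,
        CoordGrp.GLb.aeval_mapMatrix_genMat, IsUnit.mul_val_inv, sub_self]
    intro x hx
    obtain ⟨c, rfl⟩ := Ideal.mem_span_singleton'.mp hx
    rw [map_mul, h0, mul_zero]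
  refine ⟨Ideal.Quotient.liftₐ _ ψ₀ hψ, ?_⟩
  refine Ideal.Quotient.algHom_ext k (CoordGrp.GLb.algHom_ext (fun i j => ?_) ?_)
  · show Ideal.Quotient.mkₐ k I (ψ₀ (CoordGrp.GLb.X i j)) = φ (CoordGrp.GLn.X i j)
    rw [CoordGrp.GLb.aeval_X]
    exact hM i j
  · show Ideal.Quotient.mkₐ k I (ψ₀ CoordGrp.GLb.D) = φ CoordGrp.GLn.Dinv
    rw [CoordGrp.GLb.aeval_D]
    have h1 : φ CoordGrp.GLn.det * φ CoordGrp.GLn.Dinv = 1 := by
      rw [← map_mul, CoordGrp.GLn.det_mul_Dinv, map_one]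
    have h2 : Ideal.Quotient.mkₐ k I (↑hu.unit⁻¹ : B) * φ CoordGrp.GLn.det = 1 := by
      rw [← hdet, ← map_mul, IsUnit.val_inv_mul, map_one]
    exact left_inv_eq_right_inv h2 h1

theorem finiteType_GLn (N : ℕ) : Algebra.FiniteType k (CoordGrp.GLn N k) := by
  haveI : Algebra.FiniteType k (CoordGrp.GLb N k) :=
    inferInstanceAs (Algebra.FiniteType k (MvPolynomial (CoordGrp.GLPoly.Idx N) k))
  exact Algebra.FiniteType.of_surjective (Ideal.Quotient.mkₐ k (CoordGrp.GLb.relIdeal N k))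
    (Ideal.Quotient.mkₐ_surjective k _)

end GrothLib.DynMeth
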