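import Groth.Agent.Lib.DynMeth.Basic
import Groth.Agent.Lib.Hopf.FiniteRank

/-!
The subgroups cut out by limits along a one-parameter subgroup.
-/

universe u

open LaurentPolynomial TensorProduct WithConv

namespace GrothLib.DynMeth

variable {k : Type u} [CommRing k] {A : Type u} [CommRing A] [HopfAlgebra k A]

/-- An ideal cutting out a subgroup of points is a Hopf ideal. -/
theorem isHopfIdeal_of_represents (J : Ideal A)
    (P : ∀ (R : Type u) [CommRing R] [Algebra k R], (A →ₐ[k] R) → Prop) (hrep : Dyn.Represents k A J P)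
    (h1 : P k (1 : WithConv (A →ₐ[k] k)).ofConv)
    (hmul : ∀ (R : Type u) [CommRing R] [Algebra k R] (f g : WithConv (A →ₐ[k] R)),
      P R f.ofConv → P R g.ofConv → P R (f * g).ofConv)
    (hinv : ∀ (R : Type u) [CommRing R] [Algebra k R] (f : WithConv (A →ₐ[k] R)),
      P R f.ofConv → P R f⁻¹.ofConv) : J.IsHopfIdeal k := by
  let π : A →ₐ[k] A ⧸ J := Ideal.Quotient.mkₐ k J
  have hπ : ∀ a ∈ J, π a = 0 := fun a ha => Ideal.Quotient.eq_zero_iff_mem.2 ha
  refine GrothLib.Hopf.FiniteRank.isHopfIdeal_of J ?_ ?_ ?_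
  · intro a ha
    have := (hrep k _).2 h1 a ha
    rw [one_apply, Algebra.algebraMap_self_apply] at this
    exact this
  · intro a ha
    let l : A →ₐ[k] (A ⧸ J) ⊗[k] (A ⧸ J) := Algebra.TensorProduct.includeLeft.comp π
    let r : A →ₐ[k] (A ⧸ J) ⊗[k] (A ⧸ J) := Algebra.TensorProduct.includeRight.comp π
    have hl : P _ l := (hrep _ l).1 fun x hx => by simp [l, hπ x hx]
    have hr : P _ r := (hrep _ r).1 fun x hx => by simp [r, hπ x hx]
    have h := (hrep _ _).2 (hmul _ (toConv l) (toConv r) hl hr) a ha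
    rw [AlgHom.convMul_apply] at h
    refine Eq.trans ?_ h
    change (Algebra.TensorProduct.map π π) (Coalgebra.comul (R := k) a) = _
    generalize Coalgebra.comul (R := k) a = z
    induction z using TensorProduct.induction_on with
    | zero => simp
    | add x y hx hy => simp only [map_add, hx, hy]
    | tmul x y => simp [l, r, π]
  · intro a ha
    have h := (hrep _ _).2 (hinv _ (toConv π) ((hrep _ π).1 hπ)) a ha
    exact Ideal.Quotient.eq_zero_iff_mem.1 h

variable (lam : A →ₐc[k] k[T;T⁻¹])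

/-- The ideal of the points whose orbit has a limit. -/
noncomputable def idealLim : Ideal A := Ideal.span {x | ∃ n < 0, ∃ a, co lam n a = x}

/-- The ideal of the points whose orbit tends to the identity. -/
noncomputable def idealLimOne : Ideal A :=
  idealLim lam ⊔ Ideal.span (Set.range fun a => co lam 0 a - algebraMap k A (Coalgebra.counit a))

theorem represents_idealLim :
    Dyn.Represents k A (idealLim lam) (fun R _ _ g => Dyn.LimExists k A lam R g) := by
  intro R _ _ g
  show _ ↔ Dyn.LimExists k A lam R g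
  rw [limExists_iff]
  refine ⟨fun h n hn a => h _ (Ideal.subset_span ⟨n, hn, a, rfl⟩), fun h => ?_⟩
  have hle : idealLim lam ≤ RingHom.ker g := Ideal.span_le.2 (by
    rintro x ⟨n, hn, a, rfl⟩
    exact h n hn a)
  exact fun a ha => hle ha

theorem represents_idealLimOne :
    Dyn.Represents k A (idealLimOne lam) (fun R _ _ g => Dyn.LimIsOne k A lam R g) := by
  intro R _ _ g
  show _ ↔ Dyn.LimIsOne k A lam R g
  rw [limIsOne_iff]
  constructor
  · intro h
    refine ⟨fun n hn a => h _ (Ideal.mem_sup_left (Ideal.subset_span ⟨n, hn, a, rfl⟩)), fun a => ?_⟩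
    have := h _ (Ideal.mem_sup_right (Ideal.subset_span ⟨a, rfl⟩))
    rwa [map_sub, AlgHom.commutes, sub_eq_zero] at this
  · intro h
    have hle : idealLimOne lam ≤ RingHom.ker g := sup_le (Ideal.span_le.2 (by
      rintro x ⟨n, hn, a, rfl⟩
      exact h.1 n hn a)) (Ideal.span_le.2 (by
      rintro x ⟨a, rfl⟩
      simp only [SetLike.mem_coe, RingHom.mem_ker, map_sub, AlgHom.commutes, h.2, sub_self]))
    exact fun a ha => hle ha

variable {R : Type u} [CommRing R] [Algebra k R]

theorem comp_toLaurent_one :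
    toConv (((Polynomial.toLaurentAlg (R := R)).restrictScalars k).comp
      (1 : WithConv (A →ₐ[k] Polynomial R)).ofConv) = 1 := by
  rw [GrothLib.Hopf.comp_convOne, toConv_ofConv]

theorem limExists_one : Dyn.LimExists k A lam R (1 : WithConv (A →ₐ[k] R)).ofConv :=
  ⟨(1 : WithConv (A →ₐ[k] Polynomial R)).ofConv, toConv_injective (by
    rw [comp_toLaurent_one, conjOrbit_one])⟩

theorem limIsOne_one : Dyn.LimIsOne k A lam R (1 : WithConv (A →ₐ[k] R)).ofConv :=
  ⟨(1 : WithConv (A →ₐ[k] Polynomial R)).ofConv, toConv_injective (by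
    rw [comp_toLaurent_one, conjOrbit_one]), by rw [GrothLib.Hopf.comp_convOne, AlgHom.convOne_def, ofConv_toConv]⟩

theorem limExists_mul {f g : WithConv (A →ₐ[k] R)} (hf : Dyn.LimExists k A lam R f.ofConv)
    (hg : Dyn.LimExists k A lam R g.ofConv) : Dyn.LimExists k A lam R (f * g).ofConv := by
  obtain ⟨p, hp⟩ := hf
  obtain ⟨q, hq⟩ := hg
  refine ⟨(toConv p * toConv q).ofConv, toConv_injective ?_⟩
  rw [comp_mul, ofConv_toConv, ofConv_toConv, hp, hq, conjOrbit_mul]

theorem limIsOne_mul {f g : WithConv (A →ₐ[k] R)} (hf : Dyn.LimIsOne k A lam R f.ofConv)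
    (hg : Dyn.LimIsOne k A lam R g.ofConv) : Dyn.LimIsOne k A lam R (f * g).ofConv := by
  obtain ⟨p, hp, hp0⟩ := hf
  obtain ⟨q, hq, hq0⟩ := hg
  refine ⟨(toConv p * toConv q).ofConv, toConv_injective ?_, toConv_injective ?_⟩
  · rw [comp_mul, ofConv_toConv, ofConv_toConv, hp, hq, conjOrbit_mul]
  · rw [comp_mul, ofConv_toConv, ofConv_toConv, hp0, hq0, ← AlgHom.convOne_def, _root_.mul_one]

theorem limExists_inv {f : WithConv (A →ₐ[k] R)} (hf : Dyn.LimExists k A lam R f.ofConv) :
    Dyn.LimExists k A lam R f⁻¹.ofConv := by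
  obtain ⟨p, hp⟩ := hf
  refine ⟨((toConv p)⁻¹).ofConv, toConv_injective ?_⟩
  rw [comp_inv, ofConv_toConv, hp, conjOrbit_inv]

theorem limIsOne_inv {f : WithConv (A →ₐ[k] R)} (hf : Dyn.LimIsOne k A lam R f.ofConv) :
    Dyn.LimIsOne k A lam R f⁻¹.ofConv := by
  obtain ⟨p, hp, hp0⟩ := hf
  refine ⟨((toConv p)⁻¹).ofConv, toConv_injective ?_, toConv_injective ?_⟩
  · rw [comp_inv, ofConv_toConv, hp, conjOrbit_inv]
  · rw [comp_inv, ofConv_toConv, hp0, ← AlgHom.convOne_def, inv_one]

theorem isHopfIdeal_idealLim : (idealLim lam).IsHopfIdeal k :=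
  isHopfIdeal_of_represents _ _ (represents_idealLim lam) (limExists_one lam)
    (fun _ _ _ _ _ => limExists_mul lam) (fun _ _ _ _ => limExists_inv lam)

theorem isHopfIdeal_idealLimOne : (idealLimOne lam).IsHopfIdeal k :=
  isHopfIdeal_of_represents _ _ (represents_idealLimOne lam) (limIsOne_one lam)
    (fun _ _ _ _ _ => limIsOne_mul lam) (fun _ _ _ _ => limIsOne_inv lam)

theorem coeff_invert (p : k[T;T⁻¹]) (n : ℤ) : (LaurentPolynomial.invert p).coeff n = p.coeff (-n) := by
  simp [LaurentPolynomial.invert]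

theorem mapL_invert (g : R[T;T⁻¹]) (n : ℤ) :
    ((LaurentPolynomial.invert : R[T;T⁻¹] ≃ₐ[R] R[T;T⁻¹]) g).coeff n = g.coeff (-n) := by
  simp [LaurentPolynomial.invert]

variable (lamNeg : A →ₐc[k] k[T;T⁻¹]) (hneg : (lamNeg : A →ₐ[k] k[T;T⁻¹]) = Dyn.negParam k A lam)

include hneg in
/-- The orbit under the opposite one-parameter subgroup. -/
theorem co_neg (n : ℤ) (a : A) : co lamNeg n a = co lam (-n) a := by
  let inv : A[T;T⁻¹] →ₐ[k] A[T;T⁻¹] := (LaurentPolynomial.invert (R := A)).toAlgHom.restrictScalars k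
  have hl : inv.comp (Dyn.lamR k A lam A) = Dyn.lamR k A lamNeg A := by
    unfold Dyn.lamR
    rw [hneg, Dyn.negParam, ← AlgHom.comp_assoc, ← AlgHom.comp_assoc]
    congr 1
    refine AlgHom.ext fun p => AddMonoidAlgebra.ext (Finsupp.ext fun m => ?_)
    simp [inv, LaurentPolynomial.invert]
  have hC : inv.comp ((toL A).comp (AlgHom.id k A)) = (toL A).comp (AlgHom.id k A) :=
    AlgHom.ext fun x => AddMonoidAlgebra.ext (Finsupp.ext fun m => by
      simp [inv, LaurentPolynomial.invert, toL_apply])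
  have h : cL lamNeg = inv.comp (cL lam) := by
    apply toConv_injective
    have e : Dyn.conjOrbit k A lam A (AlgHom.id k A) = (toConv (Dyn.lamR k A lam A) *
        toConv ((toL A).comp (AlgHom.id k A)) * (toConv (Dyn.lamR k A lam A))⁻¹).ofConv :=
      congrArg ofConv (conjOrbit_eq_mul lam (AlgHom.id k A))
    rw [cL, cL, e, conjOrbit_eq_mul, comp_mul, comp_mul, comp_inv, ofConv_toConv, ofConv_toConv, hl, hC]
  rw [co_apply, co_apply, h]
  exact mapL_invert _ n

include hneg in
theorem represents_centralizer (Jp Jp' : Ideal A)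
    (hp : Dyn.Represents k A Jp (fun R _ _ g => Dyn.LimExists k A lam R g))
    (hp' : Dyn.Represents k A Jp' (fun R _ _ g => Dyn.LimExists k A lamNeg R g)) :
    Dyn.Represents k A (Jp ⊔ Jp')
      (fun R _ _ g => Dyn.conjOrbit k A lam R g = (toL R).comp g) := by
  intro R _ _ g
  show _ ↔ Dyn.conjOrbit k A lam R g = (toL R).comp g
  rw [conjOrbit_eq_const_iff]
  constructor
  · intro h n hn a
    rcases lt_or_gt_of_ne hn with hn | hn
    · exact (limExists_iff lam g).1 ((hp R g).1 fun x hx => h x (Ideal.mem_sup_left hx)) n hn a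
    · have := (limExists_iff lamNeg g).1 ((hp' R g).1 fun x hx => h x (Ideal.mem_sup_right hx)) (-n) (by omega) a
      rwa [co_neg lam lamNeg hneg, neg_neg] at this
  · intro h
    have h1 := (hp R g).2 ((limExists_iff lam g).2 fun n hn a => h n (by omega) a)
    have h2 := (hp' R g).2 ((limExists_iff lamNeg g).2 fun n hn a => by
      rw [co_neg lam lamNeg hneg]
      exact h (-n) (by omega) a)
    have hle : Jp ⊔ Jp' ≤ RingHom.ker g := sup_le h1 h2
    exact fun a ha => hle ha

/-- The limit of an orbit. -/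
theorem existsUnique_decomp (g : A →ₐ[k] R) (hg : Dyn.LimExists k A lam R g) :
    ∃! zu : (A →ₐ[k] R) × (A →ₐ[k] R),
      Dyn.conjOrbit k A lam R zu.1 = (toL R).comp zu.1 ∧
      Dyn.LimIsOne k A lam R zu.2 ∧
      Dyn.conv3 k A zu.1 zu.2 ((Algebra.ofId k R).comp (Bialgebra.counitAlgHom k A)) = g := by
  obtain ⟨h, hh⟩ := hg
  let ev0 : Polynomial R →ₐ[k] R := (Polynomial.aeval (R := R) (0 : R)).restrictScalars k
  let z := ev0.comp h
  have hz : ∀ a, z a = g (co lam 0 a) := fun a => by
    rw [← coeff_conjOrbit, ← hh]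
    exact aeval_zero_eq (h a)
  have hzc : Dyn.conjOrbit k A lam R z = (toL R).comp z := by
    rw [conjOrbit_eq_const_iff]
    intro n hn a
    rw [hz, co_co]
    rcases eq_or_ne 0 n with h0 | h0
    · exact absurd h0.symm hn
    · rw [if_neg h0, map_zero]
  have key : ∀ (z' u' : A →ₐ[k] R),
      Dyn.conv3 k A z' u' ((Algebra.ofId k R).comp (Bialgebra.counitAlgHom k A)) = (toConv z' * toConv u').ofConv := by
    intro z' u'
    rw [GrothLib.Hopf.conv3_eq, ← AlgHom.convOne_def, _root_.mul_one]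
  let j : Polynomial R →ₐ[k] R[T;T⁻¹] := (Polynomial.toLaurentAlg (R := R)).restrictScalars k
  have hjC : ∀ f : A →ₐ[k] R, j.comp ((IsScalarTower.toAlgHom k R (Polynomial R)).comp f) = (toL R).comp f :=
    fun f => AlgHom.ext fun a => by simp [j, toL_apply, Polynomial.toLaurent_C, single_eq_C]
  have he : ∀ f : A →ₐ[k] R, ev0.comp ((IsScalarTower.toAlgHom k R (Polynomial R)).comp f) = f :=
    fun f => AlgHom.ext fun a => by simp [ev0]
  refine ⟨(z, ((toConv z)⁻¹ * toConv g).ofConv), ⟨hzc, ?_, ?_⟩, ?_⟩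
  · refine ⟨((toConv ((IsScalarTower.toAlgHom k R (Polynomial R)).comp z))⁻¹ * toConv h).ofConv,
      toConv_injective ?_, toConv_injective ?_⟩
    · rw [comp_mul, comp_inv, ofConv_toConv, ofConv_toConv, conjOrbit_mul, conjOrbit_inv, ofConv_toConv,
        ofConv_toConv]
      rw [hjC, hzc, hh]
    · rw [comp_mul, comp_inv, ofConv_toConv, ofConv_toConv, he, ← AlgHom.convOne_def]
      exact inv_mul_cancel _
  · rw [key, toConv_ofConv, mul_inv_cancel_left, ofConv_toConv]
  · rintro ⟨z', u'⟩ ⟨hz', ⟨q, hq, hq0⟩, hmul⟩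
    rw [key] at hmul
    have hh' : toConv h = toConv ((IsScalarTower.toAlgHom k R (Polynomial R)).comp z') * toConv q := by
      refine toConv_injective.eq_iff.2 ?_ |>.trans (toConv_ofConv _)
      have h3 : j.comp h = j.comp (toConv ((IsScalarTower.toAlgHom k R (Polynomial R)).comp z') * toConv q).ofConv := by
        rw [show j.comp h = Dyn.conjOrbit k A lam R g from hh, ← hmul]
        apply toConv_injective
        rw [conjOrbit_mul, comp_mul, ofConv_toConv, ofConv_toConv, ofConv_toConv, ofConv_toConv, hjC, hz', ← hq]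
      exact AlgHom.ext fun a => toLaurentR_injective (k := k) (DFunLike.congr_fun h3 a)
    have hzz : z' = z := by
      apply toConv_injective
      have := congrArg (fun f => toConv (ev0.comp (ofConv f))) hh'
      simp only [ofConv_toConv] at this
      rw [comp_mul, ofConv_toConv, ofConv_toConv, he, hq0, ← AlgHom.convOne_def, _root_.mul_one] at this
      exact this.symm
    subst hzz
    refine Prod.ext rfl ?_
    apply toConv_injective
    change toConv u' = toConv ((toConv z)⁻¹ * toConv g).ofConv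
    rw [toConv_ofConv, ← hmul, toConv_ofConv, inv_mul_cancel_left]

end GrothLib.DynMeth
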