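import Groth.Agent.Lib.DynMeth.Ideals

/-!
Infinitesimal points and their decomposition along the weights of a one-parameter subgroup.
-/

universe u

open LaurentPolynomial TensorProduct WithConv

attribute [-simp] LaurentPolynomial.single_eq_C_mul_T

namespace GrothLib.DynMeth

variable {k : Type u} [CommRing k] {A : Type u} [CommRing A] [HopfAlgebra k A]
  {C : Type u} [CommRing C] [Algebra k C] {R : Type u} [CommRing R] [Algebra k R]

/-- A point congruent to the identity modulo `N`. -/
def Inf (N : Submodule k C) (x : WithConv (A →ₐ[k] C)) : Prop :=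
  ∀ a, x.ofConv a - algebraMap k C (Coalgebra.counit a) ∈ N

variable {N : Submodule k C}

theorem mul_apply_of_inf (hN : ∀ u ∈ N, ∀ v ∈ N, u * v = 0) {x y : WithConv (A →ₐ[k] C)} (hx : Inf N x)
    (hy : Inf N y) (a : A) :
    (x * y).ofConv a = x.ofConv a + y.ofConv a - algebraMap k C (Coalgebra.counit a) := by
  have key : ∀ z : A ⊗[k] A, Algebra.TensorProduct.lift x.ofConv y.ofConv (fun _ _ => Commute.all _ _) z =
      x.ofConv (TensorProduct.rid k A ((Coalgebra.counit (R := k)).lTensor A z)) +
      y.ofConv (TensorProduct.lid k A ((Coalgebra.counit (R := k)).rTensor A z)) -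
      algebraMap k C (Coalgebra.counit (TensorProduct.rid k A ((Coalgebra.counit (R := k)).lTensor A z))) := by
    intro z
    induction z using TensorProduct.induction_on with
    | zero => simp
    | add u v hu hv => simp only [map_add, hu, hv]; ring
    | tmul u v =>
      simp only [Algebra.TensorProduct.lift_tmul, LinearMap.lTensor_tmul, LinearMap.rTensor_tmul,
        TensorProduct.rid_tmul, TensorProduct.lid_tmul, map_smul, Algebra.smul_def, smul_eq_mul, map_mul,
        Algebra.algebraMap_self_apply, AlgHom.commutes, Bialgebra.counit_mul, Bialgebra.counit_algebraMap]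
      linear_combination hN _ (hx u) _ (hy v)
  rw [AlgHom.convMul_apply, key, Coalgebra.lTensor_counit_comul, Coalgebra.rTensor_counit_comul,
    TensorProduct.rid_tmul, TensorProduct.lid_tmul, one_smul]

theorem inf_one : Inf N (1 : WithConv (A →ₐ[k] C)) := fun a => by rw [one_apply, sub_self]; exact N.zero_mem

theorem inf_mul (hN : ∀ u ∈ N, ∀ v ∈ N, u * v = 0) {x y : WithConv (A →ₐ[k] C)} (hx : Inf N x) (hy : Inf N y) :
    Inf N (x * y) := fun a => by
  rw [mul_apply_of_inf hN hx hy, add_sub_assoc, add_sub_right_comm]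
  exact N.add_mem (hx a) (hy a)

theorem inf_inv (hN : ∀ u ∈ N, ∀ v ∈ N, u * v = 0) {x : WithConv (A →ₐ[k] C)} (hx : Inf N x) : Inf N x⁻¹ := by
  let y : WithConv (A →ₐ[k] C) := toConv
    { toFun := fun a => algebraMap k C (Coalgebra.counit a) - (x.ofConv a - algebraMap k C (Coalgebra.counit a))
      map_one' := by simp
      map_mul' := fun a b => by
        simp only [map_mul, Bialgebra.counit_mul]
        linear_combination -2 * hN _ (hx a) _ (hx b)
      map_zero' := by simp
      map_add' := fun a b => by simp only [map_add]; ring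
      commutes' := fun r => by simp }
  have hya : ∀ a, y.ofConv a = algebraMap k C (Coalgebra.counit a) - (x.ofConv a - algebraMap k C (Coalgebra.counit a)) :=
    fun _ => rfl
  have hy : Inf N y := fun a => by
    rw [hya, sub_sub_cancel_left]
    exact N.neg_mem (hx a)
  have : x * y = 1 := by
    refine WithConv.ofConv_injective (AlgHom.ext fun a => ?_)
    rw [mul_apply_of_inf hN hx hy, hya, one_apply]
    ring
  rwa [inv_eq_of_mul_eq_one_right this]

theorem inf_comp {C' : Type u} [CommRing C'] [Algebra k C'] {N' : Submodule k C'} (φ : C →ₐ[k] C')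
    (hφ : ∀ u ∈ N, φ u ∈ N') {x : WithConv (A →ₐ[k] C)} (hx : Inf N x) :
    Inf N' (toConv (φ.comp x.ofConv)) := fun a => by
  change φ (x.ofConv a) - _ ∈ N'
  rw [← φ.commutes (Coalgebra.counit a), ← map_sub]
  exact hφ _ (hx a)

theorem eq_one_of_inf {N₁ N₂ : Submodule k C} (h : ∀ u ∈ N₁, u ∈ N₂ → u = 0) {x : WithConv (A →ₐ[k] C)}
    (h1 : Inf N₁ x) (h2 : Inf N₂ x) : x = 1 :=
  WithConv.ofConv_injective (AlgHom.ext fun a => by
    rw [one_apply, ← sub_eq_zero]
    exact h _ (h1 a) (h2 a))

/-- The projection of an infinitesimal point. -/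
noncomputable def infPart (hN : ∀ u ∈ N, ∀ v ∈ N, u * v = 0) {x : WithConv (A →ₐ[k] C)} (hx : Inf N x)
    (e : C →ₗ[k] C) (he : ∀ u ∈ N, e u ∈ N) : WithConv (A →ₐ[k] C) :=
  toConv
    { toFun := fun a => algebraMap k C (Coalgebra.counit a) + e (x.ofConv a - algebraMap k C (Coalgebra.counit a))
      map_one' := by simp
      map_mul' := fun a b => by
        have hab : x.ofConv (a * b) - algebraMap k C (Coalgebra.counit (a * b)) =
            Coalgebra.counit (R := k) a • (x.ofConv b - algebraMap k C (Coalgebra.counit b)) +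
            Coalgebra.counit (R := k) b • (x.ofConv a - algebraMap k C (Coalgebra.counit a)) := by
          simp only [map_mul, Bialgebra.counit_mul, Algebra.smul_def]
          linear_combination hN _ (hx a) _ (hx b)
        simp only [hab, map_add, map_smul]
        simp only [map_mul, Bialgebra.counit_mul, Algebra.smul_def]
        linear_combination -hN _ (he _ (hx a)) _ (he _ (hx b))
      map_zero' := by simp
      map_add' := fun a b => by simp only [map_add, map_sub]; ring
      commutes' := fun r => by simp }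

theorem infPart_apply (hN : ∀ u ∈ N, ∀ v ∈ N, u * v = 0) {x : WithConv (A →ₐ[k] C)} (hx : Inf N x)
    (e : C →ₗ[k] C) (he : ∀ u ∈ N, e u ∈ N) (a : A) :
    (infPart hN hx e he).ofConv a - algebraMap k C (Coalgebra.counit a) =
      e (x.ofConv a - algebraMap k C (Coalgebra.counit a)) := by
  change algebraMap k C (Coalgebra.counit a) + _ - _ = _
  rw [add_sub_cancel_left]

/-- Decomposition of an infinitesimal point. -/
theorem infPart_mul (hN : ∀ u ∈ N, ∀ v ∈ N, u * v = 0) {x : WithConv (A →ₐ[k] C)} (hx : Inf N x)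
    (e e' : C →ₗ[k] C) (he : ∀ u ∈ N, e u ∈ N) (he' : ∀ u ∈ N, e' u ∈ N) (hsum : ∀ u, e u + e' u = u) :
    infPart hN hx e he * infPart hN hx e' he' = x := by
  have h1 : Inf N (infPart hN hx e he) := fun a => by rw [infPart_apply]; exact he _ (hx a)
  have h2 : Inf N (infPart hN hx e' he') := fun a => by rw [infPart_apply]; exact he' _ (hx a)
  refine WithConv.ofConv_injective (AlgHom.ext fun a => ?_)
  rw [mul_apply_of_inf hN h1 h2]
  have ha := hsum (x.ofConv a - algebraMap k C (Coalgebra.counit a))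
  rw [← infPart_apply hN hx e he a, ← infPart_apply hN hx e' he' a] at ha
  linear_combination ha

/-- Products of Laurent polynomials with coefficients multiplying to zero. -/
theorem mul_eq_zero_of_coeff {S : Type*} [CommRing S] (p q : S[T;T⁻¹]) (h : ∀ m n, p.coeff m * q.coeff n = 0) :
    p * q = 0 := by
  classical
  have hp : ∀ r : S[T;T⁻¹], r = ∑ n ∈ r.coeff.support, AddMonoidAlgebra.single n (r.coeff n) := fun r => by
    refine AddMonoidAlgebra.coeff_injective ?_
    simp only [AddMonoidAlgebra.coeff_sum, AddMonoidAlgebra.coeff_single]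
    exact (Finsupp.sum_single r.coeff).symm
  rw [hp p, hp q, Finset.sum_mul_sum]
  refine Finset.sum_eq_zero fun m _ => Finset.sum_eq_zero fun n _ => ?_
  rw [AddMonoidAlgebra.single_mul_single, h, AddMonoidAlgebra.single_zero]

variable (M : Ideal R) (P : ℤ → Prop) (k)

/-- Laurent polynomials with coefficients in `M` in the degrees `P`. -/
def supp : Submodule k R[T;T⁻¹] where
  carrier := {q | ∀ n, q.coeff n ∈ M ∧ (¬ P n → q.coeff n = 0)}
  add_mem' := fun hp hq n => by
    rw [AddMonoidAlgebra.coeff_add, Finsupp.add_apply]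
    exact ⟨M.add_mem (hp n).1 (hq n).1, fun h => by rw [(hp n).2 h, (hq n).2 h, add_zero]⟩
  zero_mem' := fun n => by simp
  smul_mem' := fun c q hq n => by
    rw [AddMonoidAlgebra.coeff_smul, Finsupp.smul_apply]
    refine ⟨?_, fun h => by rw [(hq n).2 h, smul_zero]⟩
    rw [Algebra.smul_def]
    exact M.mul_mem_left _ (hq n).1

/-- Two-variable Laurent polynomials with coefficients in `M` and inner degrees `P`. -/
def supp₂ : Submodule k (R[T;T⁻¹])[T;T⁻¹] where
  carrier := {q | ∀ m, q.coeff m ∈ supp k M P}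
  add_mem' := fun hp hq m => by
    rw [AddMonoidAlgebra.coeff_add, Finsupp.add_apply]
    exact (supp k M P).add_mem (hp m) (hq m)
  zero_mem' := fun m => by simp
  smul_mem' := fun c q hq m => by
    rw [AddMonoidAlgebra.coeff_smul, Finsupp.smul_apply]
    exact (supp k M P).smul_mem c (hq m)

variable {k M P}

theorem mem_supp {q : R[T;T⁻¹]} : q ∈ supp k M P ↔ ∀ n, q.coeff n ∈ M ∧ (¬ P n → q.coeff n = 0) := Iff.rfl

theorem mem_supp₂ {q : (R[T;T⁻¹])[T;T⁻¹]} : q ∈ supp₂ k M P ↔ ∀ m, q.coeff m ∈ supp k M P := Iff.rfl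

theorem supp_sq (hM : ∀ u ∈ M, ∀ v ∈ M, u * v = 0) : ∀ u ∈ supp k M P, ∀ v ∈ supp k M P, u * v = 0 :=
  fun u hu v hv => mul_eq_zero_of_coeff u v fun m n => hM _ (hu m).1 _ (hv n).1

theorem supp₂_sq (hM : ∀ u ∈ M, ∀ v ∈ M, u * v = 0) : ∀ u ∈ supp₂ k M P, ∀ v ∈ supp₂ k M P, u * v = 0 :=
  fun u hu v hv => mul_eq_zero_of_coeff u v fun m n => supp_sq hM _ (hu m) _ (hv n)

theorem supp_mono {Q : ℤ → Prop} (h : ∀ n, P n → Q n) {q : R[T;T⁻¹]} (hq : q ∈ supp k M P) : q ∈ supp k M Q :=
  fun n => ⟨(hq n).1, fun hn => (hq n).2 fun hp => hn (h n hp)⟩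

variable (k P) in
/-- Truncation to the degrees `P`. -/
noncomputable def trunc [DecidablePred P] : R[T;T⁻¹] →ₗ[k] R[T;T⁻¹] where
  toFun q := AddMonoidAlgebra.ofCoeff (q.coeff.filter P)
  map_add' p q := AddMonoidAlgebra.coeff_injective (by simp [Finsupp.filter_add])
  map_smul' c q := AddMonoidAlgebra.coeff_injective (by simp [Finsupp.filter_smul])

theorem coeff_trunc [DecidablePred P] (q : R[T;T⁻¹]) (n : ℤ) :
    (trunc k P q).coeff n = if P n then q.coeff n else 0 := by
  simp [trunc, Finsupp.filter_apply]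

theorem trunc_add [DecidablePred P] (q : R[T;T⁻¹]) : trunc k P q + trunc k (fun n => ¬ P n) q = q :=
  AddMonoidAlgebra.ext (Finsupp.ext fun n => by
    rw [AddMonoidAlgebra.coeff_add, Finsupp.add_apply, coeff_trunc, coeff_trunc]
    by_cases h : P n <;> simp [h])

theorem trunc_mem {Q : ℤ → Prop} [DecidablePred P] {q : R[T;T⁻¹]} (hq : q ∈ supp k M Q) :
    trunc k P q ∈ supp k M Q ∧ trunc k P q ∈ supp k M P := by
  constructor <;> intro n <;> rw [coeff_trunc] <;> by_cases h : P n <;> simp [h, (hq n).1]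
  exact fun hn => (hq n).2 hn

variable (lam : A →ₐc[k] k[T;T⁻¹])

theorem psiL_mem₂ {q : R[T;T⁻¹]} (hq : q ∈ supp k M P) : psiL (k := k) R q ∈ supp₂ k M P := by
  classical
  intro m n
  rw [coeff_psiL, AddMonoidAlgebra.coeff_single, Finsupp.single_apply]
  by_cases h : m = n
  · subst h; simpa using hq m
  · simp [h]

/-- The orbit of an infinitesimal point is infinitesimal. -/
theorem inf_conjOrbit {x : WithConv (A →ₐ[k] R[T;T⁻¹])} (hx : Inf (supp k M P) x) :
    Inf (supp₂ k M P) (toConv (Dyn.conjOrbit k A lam (R[T;T⁻¹]) x.ofConv)) := by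
  classical
  intro a m
  rw [AddMonoidAlgebra.coeff_sub, Finsupp.sub_apply, ofConv_toConv, coeff_conjOrbit]
  have h : (algebraMap k (R[T;T⁻¹])[T;T⁻¹] (Coalgebra.counit a)).coeff m =
      algebraMap k R[T;T⁻¹] (Coalgebra.counit (R := k) (co lam m a)) := by
    rw [IsScalarTower.algebraMap_apply k R[T;T⁻¹] (R[T;T⁻¹])[T;T⁻¹]]
    change (AddMonoidAlgebra.single (0 : ℤ) (algebraMap k R[T;T⁻¹] (Coalgebra.counit a))).coeff m = _
    rw [co_counit, AddMonoidAlgebra.coeff_single, Finsupp.single_apply]
    by_cases hm : m = 0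
    · subst hm; simp
    · simp [hm, Ne.symm hm]
  rw [h]
  exact hx _

end GrothLib.DynMeth
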