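import Groth.Agent.Lib.DynMeth.Kernel

/-!
Infinitesimal lifting for the subgroups of the dynamic method.
-/

universe u

open LaurentPolynomial TensorProduct WithConv

attribute [-simp] LaurentPolynomial.single_eq_C_mul_T

namespace GrothLib.DynMeth

variable {k : Type u} [CommRing k] {A : Type u} [CommRing A] [HopfAlgebra k A]
  (lam : A →ₐc[k] k[T;T⁻¹]) {R : Type u} [CommRing R] [Algebra k R] (M : Ideal R)
  {C : Type u} [CommRing C] [Algebra k C]

theorem mapL_psiL (φ : R →ₐ[k] C) : (mapL k (mapL k φ)).comp (psiL R) = (psiL C).comp (mapL k φ) := by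
  classical
  refine AlgHom.ext fun p => AddMonoidAlgebra.ext (Finsupp.ext fun m => AddMonoidAlgebra.ext (Finsupp.ext fun n => ?_))
  simp only [AlgHom.comp_apply, coeff_mapL, coeff_psiL, AddMonoidAlgebra.coeff_single, Finsupp.single_apply]
  by_cases h : m = n <;> simp [h]

/-- An orbit is equivariant. -/
theorem psiL_conjOrbit (g : A →ₐ[k] R) :
    (psiL R).comp (Dyn.conjOrbit k A lam R g) = Dyn.conjOrbit k A lam R[T;T⁻¹] (Dyn.conjOrbit k A lam R g) := by
  conv_rhs => rw [conjOrbit_eq]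
  rw [conjOrbit_eq lam g, ← AlgHom.comp_assoc, ← mapL_psiL, AlgHom.comp_assoc, ← cL_comp_cL]
  refine AlgHom.ext fun a => AddMonoidAlgebra.ext (Finsupp.ext fun m => ?_)
  simp only [AlgHom.comp_apply, coeff_mapL]

theorem mapL_evalOne_psiL : (mapL k (evalOne R)).comp (psiL R) = AlgHom.id k R[T;T⁻¹] := by
  refine AlgHom.ext fun p => AddMonoidAlgebra.ext (Finsupp.ext fun m => ?_)
  rw [AlgHom.comp_apply, coeff_mapL, coeff_psiL, evalOne_single]
  rfl

theorem conjOrbit_comp (φ : R →ₐ[k] C) (g : A →ₐ[k] R) :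
    Dyn.conjOrbit k A lam C (φ.comp g) = (mapL k φ).comp (Dyn.conjOrbit k A lam R g) := by
  rw [conjOrbit_eq, conjOrbit_eq lam g, ← AlgHom.comp_assoc]
  congr 1
  exact AlgHom.ext fun p => AddMonoidAlgebra.ext (Finsupp.ext fun m => by simp [coeff_mapL])

/-- An infinitesimal orbit which is equivariant is the orbit of its value at `1`. -/
theorem conjOrbit_evalOne (x : WithConv (A →ₐ[k] R[T;T⁻¹]))
    (h : Dyn.conjOrbit k A lam R[T;T⁻¹] x.ofConv = (psiL R).comp x.ofConv) :
    Dyn.conjOrbit k A lam R ((evalOne R).comp x.ofConv) = x.ofConv := by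
  rw [conjOrbit_comp, h, ← AlgHom.comp_assoc, mapL_evalOne_psiL, AlgHom.id_comp]

theorem inf_psiL {P : ℤ → Prop} {x : WithConv (A →ₐ[k] R[T;T⁻¹])} (hx : Inf (supp k M P) x) :
    Inf (supp₂ k M P) (toConv ((psiL R).comp x.ofConv)) :=
  inf_comp _ (fun _ hu => psiL_mem₂ hu) hx

theorem evalOne_mem {P : ℤ → Prop} {q : R[T;T⁻¹]} (hq : q ∈ supp k M P) : evalOne (k := k) R q ∈ M := by
  rw [evalOne_eq_sum]
  exact Ideal.sum_mem _ fun n _ => (hq n).1

variable {M}

theorem mem_supp_iff_mapL {q : R[T;T⁻¹]} :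
    q ∈ supp k M (fun _ => True) ↔ mapL k (Ideal.Quotient.mkₐ k M) q = 0 := by
  constructor
  · intro h
    refine AddMonoidAlgebra.ext (Finsupp.ext fun n => ?_)
    rw [coeff_mapL, AddMonoidAlgebra.coeff_zero, Finsupp.zero_apply]
    exact Ideal.Quotient.eq_zero_iff_mem.2 (h n).1
  · intro h n
    refine ⟨Ideal.Quotient.eq_zero_iff_mem.1 ?_, fun hn => absurd trivial hn⟩
    have := congrArg (fun p => p.coeff n) h
    simpa [coeff_mapL] using this

theorem inf_iff_comp {N : Submodule k C} {D : Type u} [CommRing D] [Algebra k D] (π : C →ₐ[k] D)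
    (hN : ∀ u, u ∈ N ↔ π u = 0) (x : WithConv (A →ₐ[k] C)) : Inf N x ↔ toConv (π.comp x.ofConv) = 1 := by
  constructor
  · intro h
    refine WithConv.ofConv_injective (AlgHom.ext fun a => ?_)
    have := (hN _).1 (h a)
    rwa [map_sub, π.commutes, sub_eq_zero, ← one_apply] at this
  · intro h a
    rw [hN, map_sub, π.commutes, sub_eq_zero, ← one_apply, ← h]
    rfl

theorem exists_poly {x : A →ₐ[k] R[T;T⁻¹]} (h : ∀ n < 0, ∀ a, (x a).coeff n = 0) :
    ∃ q : A →ₐ[k] Polynomial R, ((Polynomial.toLaurentAlg (R := R)).restrictScalars k).comp q = x := by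
  let ι := (Polynomial.toLaurentAlg (R := R)).restrictScalars k
  have hmem : ∀ a, x a ∈ ι.range := fun a => mem_range_toLaurent fun n hn => h n hn a
  refine ⟨(AlgEquiv.ofInjective ι toLaurentR_injective).symm.toAlgHom.comp (x.codRestrict ι.range hmem),
    AlgHom.ext fun a => ?_⟩
  exact congrArg Subtype.val ((AlgEquiv.ofInjective ι toLaurentR_injective).apply_symm_apply ⟨x a, hmem a⟩)

theorem swap_eq {G : Type*} [Group G] {a b c d : G} (h : a * b = c * d) : b * d⁻¹ = a⁻¹ * c := by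
  rw [mul_inv_eq_iff_eq_mul, _root_.mul_assoc, ← h, inv_mul_cancel_left]

variable (hM : ∀ u ∈ M, ∀ v ∈ M, u * v = 0)

theorem coeff_one_conv (a : A) (n : ℤ) :
    (algebraMap k R[T;T⁻¹] (Coalgebra.counit (R := k) a)).coeff n =
      if n = 0 then algebraMap k R (Coalgebra.counit a) else 0 := by
  classical
  rw [IsScalarTower.algebraMap_apply k R R[T;T⁻¹]]
  change (AddMonoidAlgebra.single (0 : ℤ) (algebraMap k R (Coalgebra.counit (R := k) a))).coeff n = _
  rw [AddMonoidAlgebra.coeff_single, Finsupp.single_apply]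
  exact ite_congr (propext eq_comm) (fun _ => rfl) (fun _ => rfl)

include hM in
/-- Correcting a point to have a limit. -/
theorem exists_correct (g : WithConv (A →ₐ[k] R)) (h : A →ₐ[k] Polynomial R)
    (hgh : (mapL k (Ideal.Quotient.mkₐ k M)).comp (Dyn.conjOrbit k A lam R g.ofConv) =
      (mapL k (Ideal.Quotient.mkₐ k M)).comp (((Polynomial.toLaurentAlg (R := R)).restrictScalars k).comp h)) :
    ∃ x : WithConv (A →ₐ[k] R), Inf (M.restrictScalars k) x ∧ Dyn.LimExists k A lam R (g * x).ofConv := by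
  classical
  let j : Polynomial R →ₐ[k] R[T;T⁻¹] := (Polynomial.toLaurentAlg (R := R)).restrictScalars k
  set f := toConv (Dyn.conjOrbit k A lam R g.ofConv) with hf
  set ξ := (toConv (j.comp h))⁻¹ * f with hξd
  have hξ : Inf (supp k M fun _ => True) ξ := by
    rw [inf_iff_comp (mapL k (Ideal.Quotient.mkₐ k M)) (fun u => mem_supp_iff_mapL)]
    rw [hξd, comp_mul, comp_inv, hf, ofConv_toConv, ofConv_toConv, hgh, inv_mul_cancel]
  have hsq := supp_sq (k := k) (P := fun _ => True) hM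
  let ξp := infPart hsq hξ (trunc k fun n => 0 ≤ n) (fun u hu => (trunc_mem hu).1)
  let ξm := infPart hsq hξ (trunc k fun n => ¬ 0 ≤ n) (fun u hu => (trunc_mem hu).1)
  have hdec : ξp * ξm = ξ := infPart_mul hsq hξ _ _ _ _ trunc_add
  have hm : Inf (supp k M fun n => ¬ 0 ≤ n) ξm := fun a => by
    rw [infPart_apply]; exact (trunc_mem (hξ a)).2
  obtain ⟨q, hq⟩ := exists_poly (x := ξp.ofConv) fun n hn a => by
    have h1 := congrArg (fun p => p.coeff n) (infPart_apply hsq hξ (trunc k fun n => 0 ≤ n) (fun u hu => (trunc_mem hu).1) a)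
    simp only [AddMonoidAlgebra.coeff_sub, Finsupp.sub_apply, coeff_trunc, if_neg (not_le.2 hn)] at h1
    rw [coeff_one_conv, if_neg hn.ne, sub_zero] at h1
    exact h1
  let h' : WithConv (A →ₐ[k] Polynomial R) := toConv h * toConv q
  have hf' : f = toConv (j.comp h'.ofConv) * ξm := by
    rw [comp_mul, ofConv_toConv, ofConv_toConv, show j.comp q = ξp.ofConv from hq, toConv_ofConv, _root_.mul_assoc,
      hdec, hξd, mul_inv_cancel_left]
  let Q := supp₂ k M fun n => ¬ 0 ≤ n
  let conj₂ := fun x : WithConv (A →ₐ[k] R[T;T⁻¹]) => toConv (Dyn.conjOrbit k A lam R[T;T⁻¹] x.ofConv)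
  let psi₂ := fun x : WithConv (A →ₐ[k] R[T;T⁻¹]) => toConv ((psiL R).comp x.ofConv)
  have heq : psi₂ (toConv (j.comp h'.ofConv)) * psi₂ ξm = conj₂ (toConv (j.comp h'.ofConv)) * conj₂ ξm := by
    rw [show psi₂ (toConv (j.comp h'.ofConv)) * psi₂ ξm = psi₂ f by rw [hf']; exact (comp_mul _ _ _).symm,
      show conj₂ (toConv (j.comp h'.ofConv)) * conj₂ ξm = conj₂ f by rw [hf']; exact (conjOrbit_mul lam _ _).symm]
    simp only [psi₂, conj₂, hf, ofConv_toConv, psiL_conjOrbit]
  set Y := psi₂ ξm * (conj₂ ξm)⁻¹ with hYd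
  have hY1 : Inf Q Y := inf_mul (supp₂_sq hM) (inf_psiL M hm) (inf_inv (supp₂_sq hM) (inf_conjOrbit lam hm))
  have hY' : Y = (psi₂ (toConv (j.comp h'.ofConv)))⁻¹ * conj₂ (toConv (j.comp h'.ofConv)) := by
    rw [hYd]
    exact swap_eq (G := WithConv (A →ₐ[k] (R[T;T⁻¹])[T;T⁻¹])) heq
  have hY2 : ∀ a m n, n < 0 → ((Y.ofConv a).coeff m).coeff n = 0 := by
    let ι₂ := mapL k j
    let sub : Polynomial R →ₐ[k] (Polynomial R)[T;T⁻¹] :=
      ((Polynomial.aeval (R := R) ((AddMonoidAlgebra.single (1 : ℤ) (Polynomial.X : Polynomial R)) :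
        (Polynomial R)[T;T⁻¹])).restrictScalars k)
    have hsub : ι₂.comp sub = (psiL R).comp j := by
      refine AlgHom.ext fun p => ?_
      induction p using Polynomial.induction_on' with
      | add x y hx hy => rw [map_add, map_add, hx, hy]
      | monomial d r =>
        rw [← Polynomial.C_mul_X_pow_eq_monomial]
        simp only [AlgHom.comp_apply, sub, j, AlgHom.coe_restrictScalars', map_mul (Polynomial.aeval _), map_pow,
          Polynomial.aeval_C, Polynomial.aeval_X, AddMonoidAlgebra.single_pow, Polynomial.toLaurentAlg_apply,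
          Polynomial.toLaurent_C_mul_X_pow, ← single_eq_C_mul_T, psiL_single]
        rw [show algebraMap R (Polynomial R)[T;T⁻¹] r = AddMonoidAlgebra.single (0 : ℤ) (Polynomial.C r) from rfl,
          AddMonoidAlgebra.single_mul_single]
        simp [ι₂, mapL, j, Polynomial.toLaurent_C_mul_X_pow, ← single_eq_C_mul_T]
    have hYι : Y = toConv (ι₂.comp ((toConv (sub.comp h'.ofConv))⁻¹ *
        toConv (Dyn.conjOrbit k A lam (Polynomial R) h'.ofConv)).ofConv) := by
      rw [hY']
      change (toConv ((psiL R).comp (j.comp h'.ofConv)))⁻¹ *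
        toConv (Dyn.conjOrbit k A lam R[T;T⁻¹] (j.comp h'.ofConv)) = _
      rw [← AlgHom.comp_assoc, ← hsub, AlgHom.comp_assoc, conjOrbit_comp, comp_mul, comp_inv]
    intro a m n hn
    rw [hYι, ofConv_toConv, AlgHom.comp_apply, coeff_mapL]
    exact (toLaurent_coeff _ n).trans (if_neg (not_le.2 hn))
  have hY : Y = 1 := by
    refine WithConv.ofConv_injective (AlgHom.ext fun a => ?_)
    rw [one_apply, ← sub_eq_zero]
    refine AddMonoidAlgebra.ext (Finsupp.ext fun m => AddMonoidAlgebra.ext (Finsupp.ext fun n => ?_))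
    simp only [AddMonoidAlgebra.coeff_zero, Finsupp.zero_apply]
    by_cases hn : 0 ≤ n
    · exact (hY1 a m n).2 (not_not.2 hn)
    · rw [AddMonoidAlgebra.coeff_sub, Finsupp.sub_apply, AddMonoidAlgebra.coeff_sub, Finsupp.sub_apply,
        hY2 a m n (not_le.1 hn), zero_sub, neg_eq_zero]
      rw [IsScalarTower.algebraMap_apply k R[T;T⁻¹] (R[T;T⁻¹])[T;T⁻¹]]
      change ((AddMonoidAlgebra.single (0 : ℤ) (algebraMap k R[T;T⁻¹] (Coalgebra.counit (R := k) a))).coeff m).coeff n = 0
      rw [AddMonoidAlgebra.coeff_single, Finsupp.single_apply]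
      split_ifs
      · rw [coeff_one_conv, if_neg (by omega)]
      · simp
  have hfix : psi₂ ξm = conj₂ ξm := mul_inv_eq_one.1 (hYd ▸ hY)
  have hfix' : Dyn.conjOrbit k A lam R[T;T⁻¹] (ξm⁻¹).ofConv = (psiL R).comp (ξm⁻¹).ofConv := by
    apply toConv_injective
    rw [conjOrbit_inv, comp_inv]
    exact (congrArg (·⁻¹) hfix).symm
  refine ⟨toConv ((evalOne R).comp (ξm⁻¹).ofConv), ?_, h'.ofConv, ?_⟩
  · exact inf_comp (evalOne (k := k) R) (fun u hu => evalOne_mem (k := k) M hu) (inf_inv (supp_sq hM) hm)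
  · apply toConv_injective
    rw [conjOrbit_mul, ofConv_toConv, conjOrbit_evalOne lam _ hfix', toConv_ofConv, ← hf, hf']
    exact (mul_inv_cancel_right _ _).symm

include hM in
/-- Decomposing an infinitesimal point. -/
theorem exists_inf_decomp (lamNeg : A →ₐc[k] k[T;T⁻¹])
    (hneg : (lamNeg : A →ₐ[k] k[T;T⁻¹]) = Dyn.negParam k A lam)
    (ξ : WithConv (A →ₐ[k] R)) (hξ : Inf (M.restrictScalars k) ξ) :
    ∃ x y : WithConv (A →ₐ[k] R), Inf (M.restrictScalars k) x ∧ Inf (M.restrictScalars k) y ∧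
      Dyn.LimIsOne k A lamNeg R x.ofConv ∧ Dyn.LimExists k A lam R y.ofConv ∧ x * y = ξ := by
  classical
  set f := toConv (Dyn.conjOrbit k A lam R ξ.ofConv) with hfd
  have hf : Inf (supp k M fun _ => True) f := by
    intro a n
    refine ⟨?_, fun h => absurd trivial h⟩
    rw [AddMonoidAlgebra.coeff_sub, Finsupp.sub_apply, hfd, ofConv_toConv, coeff_conjOrbit, coeff_one_conv]
    have h2 := hξ (co lam n a)
    rw [co_counit] at h2
    by_cases hn : n = 0
    · subst hn; simpa using h2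
    · simpa [hn] using h2
  have hsq := supp_sq (k := k) (P := fun _ => True) hM
  let a := infPart hsq hf (trunc k fun n => n < 0) (fun u hu => (trunc_mem hu).1)
  let b := infPart hsq hf (trunc k fun n => ¬ n < 0) (fun u hu => (trunc_mem hu).1)
  have hdec : a * b = f := infPart_mul hsq hf _ _ _ _ trunc_add
  have ha : Inf (supp k M fun n => n < 0) a := fun x => by rw [infPart_apply]; exact (trunc_mem (hf x)).2
  have hb : Inf (supp k M fun n => ¬ n < 0) b := fun x => by rw [infPart_apply]; exact (trunc_mem (hf x)).2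
  let conj₂ := fun x : WithConv (A →ₐ[k] R[T;T⁻¹]) => toConv (Dyn.conjOrbit k A lam R[T;T⁻¹] x.ofConv)
  let psi₂ := fun x : WithConv (A →ₐ[k] R[T;T⁻¹]) => toConv ((psiL R).comp x.ofConv)
  have heq : psi₂ a * psi₂ b = conj₂ a * conj₂ b := by
    rw [show psi₂ a * psi₂ b = psi₂ f by rw [← hdec]; exact (comp_mul _ _ _).symm,
      show conj₂ a * conj₂ b = conj₂ f by rw [← hdec]; exact (conjOrbit_mul lam _ _).symm]
    simp only [psi₂, conj₂, hfd, ofConv_toConv, psiL_conjOrbit]
  have h1 : (conj₂ a)⁻¹ * psi₂ a = conj₂ b * (psi₂ b)⁻¹ := by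
    rw [inv_mul_eq_iff_eq_mul, ← _root_.mul_assoc, ← heq, mul_inv_cancel_right]
  have h2 : (conj₂ a)⁻¹ * psi₂ a = 1 := by
    refine eq_one_of_inf (N₁ := supp₂ k M fun n => n < 0) (N₂ := supp₂ k M fun n => ¬ n < 0) ?_
      (inf_mul (supp₂_sq hM) (inf_inv (supp₂_sq hM) (inf_conjOrbit lam ha)) (inf_psiL M ha))
      (h1 ▸ inf_mul (supp₂_sq hM) (inf_conjOrbit lam hb) (inf_inv (supp₂_sq hM) (inf_psiL M hb)))
    intro u hu hu'
    refine AddMonoidAlgebra.ext (Finsupp.ext fun m => AddMonoidAlgebra.ext (Finsupp.ext fun n => ?_))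
    simp only [AddMonoidAlgebra.coeff_zero, Finsupp.zero_apply]
    by_cases hn : n < 0
    · exact (hu' m n).2 (not_not.2 hn)
    · exact (hu m n).2 hn
  have hA : Dyn.conjOrbit k A lam R[T;T⁻¹] a.ofConv = (psiL R).comp a.ofConv :=
    toConv_injective (inv_mul_eq_one.1 h2)
  have hB : Dyn.conjOrbit k A lam R[T;T⁻¹] b.ofConv = (psiL R).comp b.ofConv :=
    toConv_injective (mul_inv_eq_one.1 (h1 ▸ h2))
  refine ⟨toConv ((evalOne R).comp a.ofConv), toConv ((evalOne R).comp b.ofConv),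
    inf_comp (evalOne (k := k) R) (fun u hu => evalOne_mem (k := k) M hu) ha, inf_comp (evalOne (k := k) R) (fun u hu => evalOne_mem (k := k) M hu) hb, ?_, ?_, ?_⟩
  · have hc : ∀ n x, (evalOne R).comp a.ofConv (co lam n x) = (a.ofConv x).coeff n := fun n x => by
      rw [← coeff_conjOrbit, conjOrbit_evalOne lam a hA]
    rw [limIsOne_iff]
    refine ⟨fun n hn x => ?_, fun x => ?_⟩
    · rw [co_neg lam lamNeg hneg, ofConv_toConv, hc]
      have := (ha x (-n)).2 (by omega)
      rwa [AddMonoidAlgebra.coeff_sub, Finsupp.sub_apply, coeff_one_conv, if_neg (by omega), sub_zero] at this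
    · rw [co_neg lam lamNeg hneg, ofConv_toConv, neg_zero, hc]
      have := (ha x 0).2 (by omega)
      rwa [AddMonoidAlgebra.coeff_sub, Finsupp.sub_apply, coeff_one_conv, if_pos rfl, sub_eq_zero] at this
  · rw [limExists_iff]
    intro n hn x
    rw [ofConv_toConv, ← coeff_conjOrbit, conjOrbit_evalOne lam b hB]
    have := (hb x n).2 (not_not.2 hn)
    rwa [AddMonoidAlgebra.coeff_sub, Finsupp.sub_apply, coeff_one_conv, if_neg hn.ne, sub_zero] at this
  · rw [← comp_mul, hdec, hfd, ofConv_toConv, evalOne_conjOrbit, toConv_ofConv]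

end GrothLib.DynMeth
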