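import Groth.Agent.Lib.DynMeth.Smooth
import Groth.Agent.Lib.DynMeth.EpiLift
import Mathlib.RingTheory.TensorProduct.Basic

/-!
Multiplication from the opposite unipotent group and the parabolic group is an open immersion.
-/

universe u

open LaurentPolynomial TensorProduct WithConv

attribute [-simp] LaurentPolynomial.single_eq_C_mul_T

set_option linter.style.haveILetI false

namespace GrothLib.DynMeth

variable {k : Type u} [CommRing k] {A : Type u} [CommRing A] [HopfAlgebra k A]
  (lam lamNeg : A →ₐc[k] k[T;T⁻¹]) (hneg : (lamNeg : A →ₐ[k] k[T;T⁻¹]) = Dyn.negParam k A lam)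
  {Jp Jm : Ideal A} (hp : Dyn.Represents k A Jp (fun R _ _ g => Dyn.LimExists k A lam R g))
  (hm : Dyn.Represents k A Jm (fun R _ _ g => Dyn.LimIsOne k A lamNeg R g))

/-- The multiplication map. -/
noncomputable abbrev mulHom (Jm Jp : Ideal A) : A →ₐ[k] (A ⧸ Jm) ⊗[k] (A ⧸ Jp) :=
  (Algebra.TensorProduct.map (Ideal.Quotient.mkₐ k Jm) (Ideal.Quotient.mkₐ k Jp)).comp (Bialgebra.comulAlgHom k A)

theorem comp_mulHom {R : Type u} [CommRing R] [Algebra k R] (b : (A ⧸ Jm) ⊗[k] (A ⧸ Jp) →ₐ[k] R) :
    toConv (b.comp (mulHom (k := k) Jm Jp)) =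
      toConv ((b.comp Algebra.TensorProduct.includeLeft).comp (Ideal.Quotient.mkₐ k Jm)) *
      toConv ((b.comp Algebra.TensorProduct.includeRight).comp (Ideal.Quotient.mkₐ k Jp)) := by
  refine WithConv.ofConv_injective (AlgHom.ext fun a => ?_)
  rw [AlgHom.convMul_apply]
  simp only [ofConv_toConv, AlgHom.comp_apply, Bialgebra.comulAlgHom_apply]
  generalize Coalgebra.comul (R := k) a = z
  induction z using TensorProduct.induction_on with
  | zero => simp
  | add p q hp hq => simp only [map_add, hp, hq]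
  | tmul p q => simp [← map_mul]

include hneg in
theorem eq_one_of_both {R : Type u} [CommRing R] [Algebra k R] {w : WithConv (A →ₐ[k] R)}
    (h1 : Dyn.LimExists k A lam R w.ofConv) (h2 : Dyn.LimIsOne k A lamNeg R w.ofConv) : w = 1 := by
  rw [limExists_iff] at h1
  rw [limIsOne_iff] at h2
  have hc : Dyn.conjOrbit k A lam R w.ofConv = (toL R).comp w.ofConv := by
    rw [conjOrbit_eq_const_iff]
    intro n hn a
    rcases lt_or_gt_of_ne hn with hn | hn
    · exact h1 n hn a
    · have := h2.1 (-n) (by omega) a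
      rwa [co_neg lam lamNeg hneg, neg_neg] at this
  refine WithConv.ofConv_injective (AlgHom.ext fun a => ?_)
  have h0 := h2.2 a
  rw [co_neg lam lamNeg hneg, neg_zero, ← coeff_conjOrbit, hc, AlgHom.comp_apply, toL_apply,
    AddMonoidAlgebra.coeff_single, Finsupp.single_eq_same] at h0
  rw [h0, one_apply]

theorem fp_tensor {R B C : Type u} [CommRing R] [CommRing B] [CommRing C] [Algebra R B] [Algebra R C]
    [Algebra.FinitePresentation R B] [Algebra.FinitePresentation R C] : Algebra.FinitePresentation R (B ⊗[R] C) :=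
  Algebra.FinitePresentation.trans R B (B ⊗[R] C)

variable [Algebra.FinitePresentation k A] [Algebra.FormallySmooth k A]

include hneg hp hm in
theorem isOpenImmersion_mul :
    AlgebraicGeometry.IsOpenImmersion (AlgebraicGeometry.Spec.map
      (CommRingCat.ofHom (mulHom (k := k) Jm Jp).toRingHom)) := by
  haveI : Algebra.FinitePresentation k (A ⧸ Jm) :=
    Algebra.FinitePresentation.quotient (fg_of_represents_limIsOne lamNeg hm)
  haveI : Algebra.FinitePresentation k (A ⧸ Jp) :=
    Algebra.FinitePresentation.quotient (fg_of_represents_limExists lam hp)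
  haveI : Algebra.FinitePresentation k ((A ⧸ Jm) ⊗[k] (A ⧸ Jp)) := fp_tensor
  refine isOpenImmersion_of_lift (k := k) (A := A) (B := (A ⧸ Jm) ⊗[k] (A ⧸ Jp)) (mulHom Jm Jp)
    (fun R _ _ f g hfg => ?_) fun R _ _ M hM g b hb => ?_
  · let u := toConv ((f.comp Algebra.TensorProduct.includeLeft).comp (Ideal.Quotient.mkₐ k Jm))
    let p := toConv ((f.comp Algebra.TensorProduct.includeRight).comp (Ideal.Quotient.mkₐ k Jp))
    let u' := toConv ((g.comp Algebra.TensorProduct.includeLeft).comp (Ideal.Quotient.mkₐ k Jm))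
    let p' := toConv ((g.comp Algebra.TensorProduct.includeRight).comp (Ideal.Quotient.mkₐ k Jp))
    have hup : u * p = u' * p' :=
      (comp_mulHom f).symm.trans ((congrArg toConv hfg).trans (comp_mulHom g))
    have hU : Dyn.LimIsOne k A lamNeg R u.ofConv := (hm _ _).1 fun a ha => by
      simp [u, Ideal.Quotient.eq_zero_iff_mem.2 ha]
    have hU' : Dyn.LimIsOne k A lamNeg R u'.ofConv := (hm _ _).1 fun a ha => by
      simp [u', Ideal.Quotient.eq_zero_iff_mem.2 ha]
    have hP : Dyn.LimExists k A lam R p.ofConv := (hp _ _).1 fun a ha => by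
      simp [p, Ideal.Quotient.eq_zero_iff_mem.2 ha]
    have hP' : Dyn.LimExists k A lam R p'.ofConv := (hp _ _).1 fun a ha => by
      simp [p', Ideal.Quotient.eq_zero_iff_mem.2 ha]
    have hw : u'⁻¹ * u = p' * p⁻¹ := by
      rw [inv_mul_eq_iff_eq_mul, ← _root_.mul_assoc, ← hup, mul_inv_cancel_right]
    have h1 : u'⁻¹ * u = 1 := eq_one_of_both lam lamNeg hneg (hw ▸ limExists_mul lam hP' (limExists_inv lam hP))
      (limIsOne_mul lamNeg (limIsOne_inv lamNeg hU') hU)
    have huu : u' = u := inv_mul_eq_one.1 h1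
    have hpp : p' = p := mul_inv_eq_one.1 (hw ▸ h1)
    refine Algebra.TensorProduct.ext (AlgHom.ext fun x => ?_) (AlgHom.ext fun x => ?_)
    · obtain ⟨a, rfl⟩ := Ideal.Quotient.mk_surjective x
      exact (DFunLike.congr_fun (congrArg ofConv huu) a).symm
    · obtain ⟨a, rfl⟩ := Ideal.Quotient.mk_surjective x
      exact (DFunLike.congr_fun (congrArg ofConv hpp) a).symm
  · let π := Ideal.Quotient.mkₐ k M
    obtain ⟨u, hu, huπ⟩ := exists_lift_limIsOne lamNeg hM
      ((b.comp Algebra.TensorProduct.includeLeft).comp (Ideal.Quotient.mkₐ k Jm))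
      ((hm _ _).1 fun a ha => by simp [Ideal.Quotient.eq_zero_iff_mem.2 ha])
    obtain ⟨p, hp', hpπ⟩ := exists_lift_limExists lam hM
      ((b.comp Algebra.TensorProduct.includeRight).comp (Ideal.Quotient.mkₐ k Jp))
      ((hp _ _).1 fun a ha => by simp [Ideal.Quotient.eq_zero_iff_mem.2 ha])
    have hπ : toConv (π.comp u.ofConv) * toConv (π.comp p.ofConv) = toConv (π.comp g) := by
      rw [← hb, comp_mulHom b, huπ, hpπ]
    have hξ : Inf (M.restrictScalars k) (u⁻¹ * toConv g * p⁻¹) := by
      rw [inf_iff_comp π (fun _ => Ideal.Quotient.eq_zero_iff_mem.symm), comp_mul, comp_mul, comp_inv, comp_inv,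
        ofConv_toConv, ← hπ, inv_mul_cancel_left, mul_inv_cancel]
    obtain ⟨x, y, hx, hy, hxm, hyp, hxy⟩ := exists_inf_decomp lam (sq_zero hM) lamNeg hneg _ hξ
    have hu' : ∀ a ∈ Jm, (u * x).ofConv a = 0 := (hm _ _).2 (limIsOne_mul lamNeg hu hxm)
    have hp'' : ∀ a ∈ Jp, (y * p).ofConv a = 0 := (hp _ _).2 (limExists_mul lam hyp hp')
    let b' : (A ⧸ Jm) ⊗[k] (A ⧸ Jp) →ₐ[k] R :=
      Algebra.TensorProduct.lift (Ideal.Quotient.liftₐ Jm (u * x).ofConv hu')
        (Ideal.Quotient.liftₐ Jp (y * p).ofConv hp'') (fun _ _ => Commute.all _ _)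
    have hl : toConv ((b'.comp Algebra.TensorProduct.includeLeft).comp (Ideal.Quotient.mkₐ k Jm)) = u * x := by
      refine WithConv.ofConv_injective (AlgHom.ext fun a => ?_)
      simp [b']
    have hr : toConv ((b'.comp Algebra.TensorProduct.includeRight).comp (Ideal.Quotient.mkₐ k Jp)) = y * p := by
      refine WithConv.ofConv_injective (AlgHom.ext fun a => ?_)
      simp [b']
    refine ⟨b', toConv_injective ?_, ?_⟩
    · rw [comp_mulHom b', hl, hr]
      calc u * x * (y * p) = u * (x * y) * p := by simp only [_root_.mul_assoc]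
        _ = toConv g := by rw [hxy]; group
    · have h1 : toConv (π.comp (u * x).ofConv) = toConv (π.comp u.ofConv) := by
        rw [comp_mul, comp_of_inf hx, _root_.mul_one]
      have h2 : toConv (π.comp (y * p).ofConv) = toConv (π.comp p.ofConv) := by
        rw [comp_mul, comp_of_inf hy, _root_.one_mul]
      refine Algebra.TensorProduct.ext (AlgHom.ext fun z => ?_) (AlgHom.ext fun z => ?_)
      · obtain ⟨a, rfl⟩ := Ideal.Quotient.mk_surjective z
        refine Eq.trans ?_ (DFunLike.congr_fun ((congrArg ofConv h1).trans huπ) a)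
        simp [b', π]
      · obtain ⟨a, rfl⟩ := Ideal.Quotient.mk_surjective z
        refine Eq.trans ?_ (DFunLike.congr_fun ((congrArg ofConv h2).trans hpπ) a)
        simp [b', π]

end GrothLib.DynMeth
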