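import Groth.Agent.Lib.DynMeth.Lift
import Mathlib.RingTheory.Smooth.Basic
import Mathlib.RingTheory.FinitePresentation
import Mathlib.RingTheory.Polynomial.Basic

/-!
The subgroups of the dynamic method are finitely presented, and smooth when the group is.
-/

universe u

open LaurentPolynomial TensorProduct WithConv

attribute [-simp] LaurentPolynomial.single_eq_C_mul_T

namespace GrothLib.DynMeth

variable {k : Type u} [CommRing k] {A : Type u} [CommRing A] [HopfAlgebra k A]
  (lam : A →ₐc[k] k[T;T⁻¹])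

omit [HopfAlgebra k A] in
/-- A condition on points is cut out by at most one ideal. -/
theorem eq_of_represents [Algebra k A] {J J' : Ideal A}
    {P : ∀ (R : Type u) [CommRing R] [Algebra k R], (A →ₐ[k] R) → Prop}
    (h : ∀ (R : Type u) [CommRing R] [Algebra k R] (g : A →ₐ[k] R), (∀ a ∈ J, g a = 0) ↔ P R g)
    (h' : ∀ (R : Type u) [CommRing R] [Algebra k R] (g : A →ₐ[k] R), (∀ a ∈ J', g a = 0) ↔ P R g) : J = J' :=
  le_antisymm
    (fun a ha => Ideal.Quotient.eq_zero_iff_mem.1 ((h _ _).2 ((h' _ (Ideal.Quotient.mkₐ k J')).1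
      fun x hx => Ideal.Quotient.eq_zero_iff_mem.2 hx) a ha))
    (fun a ha => Ideal.Quotient.eq_zero_iff_mem.1 ((h' _ _).2 ((h _ (Ideal.Quotient.mkₐ k J)).1
      fun x hx => Ideal.Quotient.eq_zero_iff_mem.2 hx) a ha))

variable [Algebra.FiniteType k A]

theorem idealLim_fg : (idealLim lam).FG := by
  classical
  obtain ⟨s, hs⟩ := Algebra.FiniteType.out (R := k) (A := A)
  let t : Finset A := s.biUnion fun a => (((cL lam a).coeff.support).filter (· < 0)).image fun n => co lam n a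
  refine ⟨t, ?_⟩
  let J' : Ideal A := Ideal.span (t : Set A)
  let π : A →ₐ[k] A ⧸ J' := Ideal.Quotient.mkₐ k J'
  refine le_antisymm (Ideal.span_le.2 ?_) ?_
  · intro x hx
    simp only [t, Finset.coe_biUnion, Finset.coe_image, Set.mem_iUnion, Set.mem_image, Finset.coe_filter] at hx
    obtain ⟨a, -, n, ⟨-, hn⟩, rfl⟩ := hx
    exact Ideal.subset_span ⟨n, hn, a, rfl⟩
  · have hgen : ∀ a ∈ s, ∀ n < 0, π (co lam n a) = 0 := fun a ha n hn => by
      by_cases h : n ∈ (cL lam a).coeff.support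
      · exact Ideal.Quotient.eq_zero_iff_mem.2 (Ideal.subset_span (Finset.mem_coe.2
          (Finset.mem_biUnion.2 ⟨a, ha, Finset.mem_image.2 ⟨n, Finset.mem_filter.2 ⟨h, hn⟩, rfl⟩⟩)))
      · rw [co_apply, Finsupp.notMem_support_iff.1 h, map_zero]
    let ι := (Polynomial.toLaurentAlg (R := A ⧸ J')).restrictScalars k
    have hall : ∀ a, Dyn.conjOrbit k A lam _ π a ∈ ι.range := by
      intro a
      have : (⊤ : Subalgebra k A) ≤ ι.range.comap (Dyn.conjOrbit k A lam _ π) := by
        rw [← hs, Algebra.adjoin_le_iff]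
        intro b hb
        exact mem_range_toLaurent fun n hn => by
          change (Dyn.conjOrbit k A lam _ π b).coeff n = 0
          rw [coeff_conjOrbit]; exact hgen b hb n hn
      exact this (Algebra.mem_top (x := a))
    refine Ideal.span_le.2 ?_
    rintro x ⟨n, hn, a, rfl⟩
    obtain ⟨p, hp⟩ := hall a
    refine Ideal.Quotient.eq_zero_iff_mem.1 ?_
    change π (co lam n a) = 0
    rw [← coeff_conjOrbit, ← hp]
    exact (toLaurent_coeff p n).trans (if_neg (not_le.2 hn))

theorem idealLimOne_fg : (idealLimOne lam).FG := by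
  classical
  obtain ⟨s, hs⟩ := Algebra.FiniteType.out (R := k) (A := A)
  obtain ⟨t, ht⟩ := idealLim_fg lam
  let g0 : A → A := fun a => co lam 0 a - algebraMap k A (Coalgebra.counit a)
  let J' : Ideal A := idealLim lam ⊔ Ideal.span (g0 '' (s : Set A))
  have hfg : J'.FG := Submodule.FG.sup ⟨t, ht⟩ ⟨s.image g0, by rw [Finset.coe_image]⟩
  suffices h : idealLimOne lam = J' by rw [h]; exact hfg
  refine le_antisymm ?_ (sup_le_sup_left (Ideal.span_mono (Set.image_subset_range _ _)) _)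
  let π : A →ₐ[k] A ⧸ J' := Ideal.Quotient.mkₐ k J'
  have h1 : Dyn.LimExists k A lam _ π := (represents_idealLim lam _ π).1 fun a ha =>
    Ideal.Quotient.eq_zero_iff_mem.2 (Ideal.mem_sup_left ha)
  obtain ⟨p, hp⟩ := h1
  have hp0 : ∀ a, Polynomial.aeval (0 : A ⧸ J') (p a) = π (co lam 0 a) := fun a => by
    rw [aeval_zero_eq, ← coeff_conjOrbit, ← hp]
    rfl
  have h0 : ((Polynomial.aeval (R := A ⧸ J') (0 : A ⧸ J')).restrictScalars k).comp p =
      (Algebra.ofId k _).comp (Bialgebra.counitAlgHom k A) := by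
    refine AlgHom.ext_of_adjoin_eq_top hs fun a ha => ?_
    refine (hp0 a).trans ?_
    have : π (g0 a) = 0 := Ideal.Quotient.eq_zero_iff_mem.2
      (Ideal.mem_sup_right (Ideal.subset_span ⟨a, ha, rfl⟩))
    rw [map_sub, AlgHom.commutes, sub_eq_zero] at this
    exact this
  intro a ha
  exact Ideal.Quotient.eq_zero_iff_mem.1 ((represents_idealLimOne lam _ π).2 ⟨p, hp, h0⟩ a ha)

theorem fg_of_represents_limExists {J : Ideal A}
    (hJ : Dyn.Represents k A J (fun R _ _ g => Dyn.LimExists k A lam R g)) : J.FG :=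
  eq_of_represents hJ (represents_idealLim lam) ▸ idealLim_fg lam

theorem fg_of_represents_limIsOne {J : Ideal A}
    (hJ : Dyn.Represents k A J (fun R _ _ g => Dyn.LimIsOne k A lam R g)) : J.FG :=
  eq_of_represents hJ (represents_idealLimOne lam) ▸ idealLimOne_fg lam

section Lift

variable {R : Type u} [CommRing R] [Algebra k R] {M : Ideal R}

omit [Algebra.FiniteType k A] in
theorem comp_of_inf {x : WithConv (A →ₐ[k] R)} (hx : Inf (M.restrictScalars k) x) :
    toConv ((Ideal.Quotient.mkₐ k M).comp x.ofConv) = 1 :=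
  (inf_iff_comp (Ideal.Quotient.mkₐ k M) (fun _ => Ideal.Quotient.eq_zero_iff_mem.symm) x).1 hx

variable [Algebra.FormallySmooth k A] (hM : M ^ 2 = ⊥)

omit [Algebra.FiniteType k A] [Algebra.FormallySmooth k A] in
include hM in
theorem sq_zero : ∀ u ∈ M, ∀ v ∈ M, u * v = 0 := fun u hu v hv => by
  have : u * v ∈ M ^ 2 := by rw [pow_two]; exact Ideal.mul_mem_mul hu hv
  rwa [hM] at this

omit [Algebra.FiniteType k A] in
include hM in
theorem exists_lift_limExists (φ : A →ₐ[k] R ⧸ M) (hφ : Dyn.LimExists k A lam _ φ) :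
    ∃ g : WithConv (A →ₐ[k] R), Dyn.LimExists k A lam R g.ofConv ∧ (Ideal.Quotient.mkₐ k M).comp g.ofConv = φ := by
  obtain ⟨hb, hhb⟩ := hφ
  let π := Ideal.Quotient.mkₐ k M
  obtain ⟨g, hg⟩ := Algebra.FormallySmooth.exists_lift (R := k) (A := A) M ⟨2, hM⟩ φ
  let q : Polynomial R →ₐ[k] Polynomial (R ⧸ M) := Polynomial.mapAlgHom π
  have hq : Function.Surjective q := Polynomial.map_surjective _ Ideal.Quotient.mk_surjective
  have hker : IsNilpotent (RingHom.ker (q : Polynomial R →+* Polynomial (R ⧸ M))) := by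
    refine ⟨2, ?_⟩
    change (RingHom.ker (Polynomial.mapRingHom (Ideal.Quotient.mk M))) ^ 2 = ⊥
    rw [Polynomial.ker_mapRingHom, Ideal.mk_ker, ← Ideal.map_pow, hM, Ideal.map_bot]
  let h := Algebra.FormallySmooth.liftOfSurjective hb q hq hker
  have hh : q.comp h = hb := Algebra.FormallySmooth.comp_liftOfSurjective _ _ _ _
  obtain ⟨x, hx, hlim⟩ := exists_correct lam (sq_zero hM) (toConv g) h (by
    refine AlgHom.ext fun a => AddMonoidAlgebra.ext (Finsupp.ext fun n => ?_)
    rw [AlgHom.comp_apply, AlgHom.comp_apply, coeff_mapL, coeff_mapL, ofConv_toConv, coeff_conjOrbit,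
      ← AlgHom.comp_apply π, show π.comp g = φ from hg, ← coeff_conjOrbit, ← hhb]
    change (Polynomial.toLaurent (hb a)).coeff n = π ((Polynomial.toLaurent (h a)).coeff n)
    rw [← hh, toLaurent_coeff, toLaurent_coeff]
    split_ifs <;> simp [q])
  refine ⟨toConv g * x, hlim, ?_⟩
  apply toConv_injective
  rw [comp_mul, comp_of_inf hx, _root_.mul_one, ofConv_toConv]
  exact congrArg toConv hg

omit [Algebra.FiniteType k A] in
include hM in
theorem exists_lift_limIsOne (φ : A →ₐ[k] R ⧸ M) (hφ : Dyn.LimIsOne k A lam _ φ) :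
    ∃ g : WithConv (A →ₐ[k] R), Dyn.LimIsOne k A lam R g.ofConv ∧ (Ideal.Quotient.mkₐ k M).comp g.ofConv = φ := by
  let π := Ideal.Quotient.mkₐ k M
  have hlimφ : Dyn.LimExists k A lam _ φ := (limExists_iff lam φ).2 ((limIsOne_iff lam φ).1 hφ).1
  obtain ⟨g, hg, hgφ⟩ := exists_lift_limExists lam hM φ hlimφ
  obtain ⟨⟨z, v⟩, ⟨hz, hv, hzv⟩, -⟩ := existsUnique_decomp lam g.ofConv hg
  refine ⟨toConv v, hv, ?_⟩
  obtain ⟨w, -, huniq⟩ := existsUnique_decomp lam φ hlimφ
  have e1 : (((1 : WithConv (A →ₐ[k] R ⧸ M)).ofConv, φ) : (A →ₐ[k] R ⧸ M) × (A →ₐ[k] R ⧸ M)) = w := by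
    refine huniq _ ⟨?_, hφ, ?_⟩
    · apply toConv_injective
      rw [conjOrbit_one, GrothLib.Hopf.comp_convOne, toConv_ofConv]
    · rw [GrothLib.Hopf.conv3_eq, ← AlgHom.convOne_def, toConv_ofConv, _root_.mul_one, _root_.one_mul, ofConv_toConv]
  have e2 : (π.comp z, π.comp v) = w := by
    refine huniq _ ⟨?_, ?_, ?_⟩
    · change Dyn.conjOrbit k A lam _ (π.comp z) = (toL (R ⧸ M)).comp (π.comp z)
      rw [conjOrbit_comp, hz]
      exact AlgHom.ext fun a => mapL_toL π (z a)
    · rw [limIsOne_iff] at hv ⊢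
      refine ⟨fun n hn a => ?_, fun a => ?_⟩
      · rw [AlgHom.comp_apply, hv.1 n hn a, map_zero]
      · rw [AlgHom.comp_apply, hv.2 a, AlgHom.commutes]
    · rw [GrothLib.Hopf.conv3_eq, ← AlgHom.convOne_def, _root_.mul_one] at hzv ⊢
      rw [← hgφ, ← hzv]
      exact congrArg ofConv (comp_mul π (toConv z) (toConv v)).symm
  exact (Prod.ext_iff.1 (e2.trans e1.symm)).2

end Lift

variable [Algebra.FormallySmooth k A] {J : Ideal A}

omit [Algebra.FiniteType k A] in
theorem formallySmooth_limExists (hJ : Dyn.Represents k A J (fun R _ _ g => Dyn.LimExists k A lam R g)) :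
    Algebra.FormallySmooth k (A ⧸ J) := by
  refine Algebra.FormallySmooth.of_comp_surjective fun B _ _ I hI φ => ?_
  obtain ⟨g, hg, hgφ⟩ := exists_lift_limExists lam hI (φ.comp (Ideal.Quotient.mkₐ k J))
    ((hJ _ _).1 fun a ha => by simp [Ideal.Quotient.eq_zero_iff_mem.2 ha])
  exact ⟨Ideal.Quotient.liftₐ J g.ofConv ((hJ _ _).2 hg), AlgHom.ext fun x => by
    obtain ⟨a, rfl⟩ := Ideal.Quotient.mk_surjective x
    exact DFunLike.congr_fun hgφ a⟩

omit [Algebra.FiniteType k A] in
theorem formallySmooth_limIsOne (hJ : Dyn.Represents k A J (fun R _ _ g => Dyn.LimIsOne k A lam R g)) :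
    Algebra.FormallySmooth k (A ⧸ J) := by
  refine Algebra.FormallySmooth.of_comp_surjective fun B _ _ I hI φ => ?_
  obtain ⟨g, hg, hgφ⟩ := exists_lift_limIsOne lam hI (φ.comp (Ideal.Quotient.mkₐ k J))
    ((hJ _ _).1 fun a ha => by simp [Ideal.Quotient.eq_zero_iff_mem.2 ha])
  exact ⟨Ideal.Quotient.liftₐ J g.ofConv ((hJ _ _).2 hg), AlgHom.ext fun x => by
    obtain ⟨a, rfl⟩ := Ideal.Quotient.mk_surjective x
    exact DFunLike.congr_fun hgφ a⟩

end GrothLib.DynMeth
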